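import Mathlib
import Cfsg.Agent.Lib.Helper18.Fpf4Mod

set_option autoImplicit false

namespace Cfsg.Agent.Lib.Helper1.FrobPQ

open Cfsg.Agent.Lib.Helper18.Fpf4

variable {M : Type*} [CommGroup M] [Finite M]

noncomputable def comp (Z Z₁ : Subgroup (MulAut M)) : Subgroup M :=
  fixSub (Z₁ : Set (MulAut M)) ⊓ (trP Z).ker

theorem mem_comp {Z Z₁ : Subgroup (MulAut M)} {m : M} :
    m ∈ comp Z Z₁ ↔ (∀ z ∈ Z₁, z m = m) ∧ trP Z m = 1 := by
  unfold comp
  rw [Subgroup.mem_inf, MonoidHom.mem_ker]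
  rfl

theorem trP_map_conj (P : Subgroup (MulAut M)) (g : MulAut M) (m : M) :
    trP (P.map (MulAut.conj g).toMonoidHom) (g m) = g (trP P m) := by
  classical
  haveI : Fintype ↥P := Fintype.ofFinite _
  haveI : Fintype ↥(P.map (MulAut.conj g).toMonoidHom) := Fintype.ofFinite _
  rw [trP_apply, trP_apply, map_prod]
  let e : ↥P → ↥(P.map (MulAut.conj g).toMonoidHom) :=
    fun y => ⟨g * (y : MulAut M) * g⁻¹, ⟨y, y.2, rfl⟩⟩
  have he : Function.Bijective e := by
    constructor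
    · intro a b hab
      have h1 : g * (a : MulAut M) * g⁻¹ = g * (b : MulAut M) * g⁻¹ := congrArg Subtype.val hab
      apply Subtype.ext
      exact mul_left_cancel (mul_right_cancel h1)
    · rintro ⟨_, y, hy, rfl⟩
      exact ⟨⟨y, hy⟩, rfl⟩
  rw [← he.prod_comp (fun z : ↥(P.map (MulAut.conj g).toMonoidHom) => (z : MulAut M) (g m))]
  apply Finset.prod_congr rfl
  intro y _
  show (g * (y : MulAut M) * g⁻¹) (g m) = g ((y : MulAut M) m)
  simp [MulAut.mul_apply]

end Cfsg.Agent.Lib.Helper1.FrobPQ
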