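import Mathlib
import Cfsg.Agent.Lib.Helper1.FrobPQ.Defs

set_option autoImplicit false

namespace Cfsg.Agent.Lib.Helper1.FrobPQ

open Cfsg.Agent.Lib.Helper18.Fpf4

variable {M : Type*} [CommGroup M]

def stabS (W : Subgroup M) : Subgroup (MulAut M) where
  carrier := {g | ∀ w, g w ∈ W ↔ w ∈ W}
  one_mem' := fun _ => Iff.rfl
  mul_mem' := by
    intro g h hg hh w
    rw [MulAut.mul_apply, hg, hh]
  inv_mem' := by
    intro g hg w
    rw [← hg (g⁻¹ w)]
    simp

theorem mem_stabS {W : Subgroup M} {g : MulAut M} : g ∈ stabS W ↔ ∀ w, g w ∈ W ↔ w ∈ W :=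
  Iff.rfl

theorem apply_mem_of_mem_stabS {W : Subgroup M} {g : MulAut M} (hg : g ∈ stabS W) {w : M}
    (hw : w ∈ W) : g w ∈ W := (hg w).mpr hw

theorem mem_stabS_of_forall [Finite M] {W : Subgroup M} {g : MulAut M}
    (h : ∀ w ∈ W, g w ∈ W) : g ∈ stabS W := by
  intro w
  refine ⟨fun hw => ?_, h w⟩
  let e : ↥W → ↥W := fun u => ⟨g u, h u u.2⟩
  have he : Function.Injective e := by
    intro a b hab
    have h1 : g (a : M) = g (b : M) := congrArg Subtype.val hab
    exact Subtype.ext (g.injective h1)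
  have hs : Function.Surjective e := Finite.injective_iff_surjective.mp he
  obtain ⟨u, hu⟩ := hs ⟨g w, hw⟩
  have h1 : g (u : M) = g w := congrArg Subtype.val hu
  have h2 : (u : M) = w := g.injective h1
  rw [← h2]
  exact u.2

def resAutS (W : Subgroup M) (g : ↥(stabS W)) : MulAut ↥W where
  toFun w := ⟨(g : MulAut M) w, (g.2 w).mpr w.2⟩
  invFun w := ⟨(g : MulAut M)⁻¹ w, ((stabS W).inv_mem g.2 w).mpr w.2⟩
  left_inv w := by
    apply Subtype.ext
    simp
  right_inv w := by
    apply Subtype.ext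
    simp
  map_mul' a b := by
    apply Subtype.ext
    simp

def resHom (W : Subgroup M) : ↥(stabS W) →* MulAut ↥W where
  toFun := resAutS W
  map_one' := by
    ext w
    rfl
  map_mul' a b := by
    ext w
    rfl

theorem resHom_apply (W : Subgroup M) (g : ↥(stabS W)) (w : ↥W) :
    ((resHom W g w : ↥W) : M) = (g : MulAut M) (w : M) := rfl

theorem resHom_eq_one_iff (W : Subgroup M) (g : ↥(stabS W)) :
    resHom W g = 1 ↔ ∀ w ∈ W, (g : MulAut M) w = w := by
  constructor
  · intro h w hw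
    have h1 := congrArg (fun e : MulAut ↥W => ((e ⟨w, hw⟩ : ↥W) : M)) h
    exact h1
  · intro h
    ext w
    exact h w w.2

end Cfsg.Agent.Lib.Helper1.FrobPQ
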