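import Mathlib
import Cfsg.Agent.Lib.Helper20.HHExtK
import Cfsg.Agent.Lib.Helper1.FrobPQ.Res

set_option autoImplicit false
set_option linter.unusedSectionVars false

namespace Cfsg.Agent.Lib.Helper1.FrobPQ

open Cfsg.Agent.Lib.Helper18.Fpf4

variable {M : Type*} [CommGroup M] [Finite M]

theorem hh_step {ℓ s o : ℕ} (hℓ : ℓ.Prime) (hs : s.Prime) (ho : o.Prime) (hℓs : ℓ ≠ s)
    (hℓo : ℓ ≠ o) (hso : s ≠ o) (hexpM : ∀ m : M, m ^ ℓ = 1) (W : Subgroup M)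
    (Q : Subgroup (MulAut M)) (hQ : IsPGroup s Q) (x : MulAut M) (hxo : x ^ o = 1)
    (hxQ : x ∈ Subgroup.normalizer (Q : Set (MulAut M))) (hxW : x ∈ stabS W) (hQW : Q ≤ stabS W)
    (hfpf : ∀ w ∈ W, x w = w → w = 1)
    (hexc : s = 2 → (∃ n : ℕ, o = 2 ^ n + 1) → ∀ a ∈ Q, ∀ b ∈ Q, a * b = b * a) :
    ∀ y ∈ Q, ∀ w ∈ W, (x * y * x⁻¹ * y⁻¹) w = w := by
  obtain ⟨xb, hxb⟩ : ∃ xb : MulAut ↥W, xb = resHom W ⟨x, hxW⟩ := ⟨_, rfl⟩
  obtain ⟨Qb, hQb⟩ : ∃ Qb : Subgroup (MulAut ↥W), Qb = (Q.subgroupOf (stabS W)).map (resHom W) :=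
    ⟨_, rfl⟩
  have hmemQb : ∀ y (hy : y ∈ Q), resHom W ⟨y, hQW hy⟩ ∈ Qb := by
    intro y hy
    rw [hQb]
    exact Subgroup.mem_map_of_mem _ (Subgroup.mem_subgroupOf.mpr hy)
  by_contra hcon
  push Not at hcon
  obtain ⟨y, hy, w, hw, hne⟩ := hcon
  have hxbo : xb ^ o = 1 := by
    rw [hxb, ← map_pow]
    have : (⟨x, hxW⟩ : ↥(stabS W)) ^ o = 1 := Subtype.ext hxo
    rw [this, map_one]
  have hQbs : IsPGroup s Qb := by
    rw [hQb]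
    exact (hQ.comap_subtype).map _
  have hxbQ : xb ∈ Subgroup.normalizer (Qb : Set (MulAut ↥W)) := by
    rw [hQb, hxb]
    apply Subgroup.le_normalizer_map (resHom W)
    apply Subgroup.mem_map_of_mem
    rw [Subgroup.mem_normalizer_iff]
    intro h
    rw [Subgroup.mem_subgroupOf, Subgroup.mem_subgroupOf]
    exact Subgroup.mem_normalizer_iff.mp hxQ h
  have hnc : ∃ g ∈ Qb, xb * g ≠ g * xb := by
    refine ⟨_, hmemQb y hy, ?_⟩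
    intro h
    apply hne
    have h1 : xb * resHom W ⟨y, hQW hy⟩ * xb⁻¹ * (resHom W ⟨y, hQW hy⟩)⁻¹ = 1 := by
      rw [h]; group
    rw [hxb, ← map_inv, ← map_inv, ← map_mul, ← map_mul, ← map_mul, resHom_eq_one_iff] at h1
    exact h1 w hw
  have hexc' : s = 2 → (∃ n : ℕ, o = 2 ^ n + 1) → ∀ a ∈ Qb, ∀ b ∈ Qb, a * b = b * a := by
    intro h2 hn
    rw [hQb]
    rintro _ ⟨a, ha, rfl⟩ _ ⟨b, hb, rfl⟩
    rw [← map_mul, ← map_mul]
    congr 1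
    apply Subtype.ext
    exact hexc h2 hn a.1 (Subgroup.mem_subgroupOf.mp ha) b.1 (Subgroup.mem_subgroupOf.mp hb)
  obtain ⟨v, hv1, hvx⟩ := Cfsg.Agent.Lib.Helper20.HHExt.exists_fixed_aut hℓ hs ho hℓs hℓo hso
    (V := ↥W) (fun v => Subtype.ext (hexpM v)) (MonoidHom.id (MulAut ↥W)) xb Qb hxbo hQbs hxbQ hnc
    (fun d _ hd => hd) hexc'
  apply hv1
  apply Subtype.ext
  apply hfpf v v.2
  have := congrArg Subtype.val hvx
  rw [MonoidHom.id_apply, hxb, resHom_apply] at this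
  exact this

end Cfsg.Agent.Lib.Helper1.FrobPQ
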