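import Mathlib
import Cfsg.Agent.S0022
import Cfsg.Agent.Lib.Helper1.FrobPQ.Res
import Cfsg.Agent.Lib.Helper1.Ward.Frob

set_option autoImplicit false
set_option linter.unusedSectionVars false

namespace Cfsg.Agent.Lib.Helper1.FrobPQ

open Cfsg.Agent.Lib.Helper18.Fpf4 Cfsg.Agent.Lib.Helper1.Ward
open scoped commutatorElement

variable {M : Type*} [CommGroup M] [Finite M]

structure LocalData (s : ℕ) (A Z Z₁ : Subgroup (MulAut M)) : Prop where
  hs : s.Prime
  Zab : ∀ a ∈ Z, ∀ b ∈ Z, a * b = b * a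
  Zs : ∀ z ∈ Z, z ^ s = 1
  AZ : A ≤ Subgroup.normalizer (Z : Set (MulAut M))
  Z₁Z : Z₁ ≤ Z
  Z₁ne : Z₁ ≠ Z
  Z₁max : ∀ z ∈ Z, z ∉ Z₁ → Z₁ ⊔ Subgroup.zpowers z = Z
  compne : comp Z Z₁ ≠ ⊥
  copMs : (Nat.card M).Coprime s
  copMA : (Nat.card M).Coprime (Nat.card A)
  copAs : (Nat.card A).Coprime s
  fpfM : ∀ m : M, (∀ a ∈ A, a m = m) → m = 1
  fpfZ : ∀ z ∈ Z, (∀ a ∈ A, a * z = z * a) → z = 1

theorem isPGroup_of_exp {G : Type*} [Group G] {s : ℕ} {Z : Subgroup G} (h : ∀ z ∈ Z, z ^ s = 1) :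
    IsPGroup s Z := by
  intro z
  refine ⟨1, ?_⟩
  apply Subtype.ext
  rw [pow_one, Subgroup.coe_pow]
  exact h z z.2

namespace LocalData

variable {s : ℕ} {A Z Z₁ : Subgroup (MulAut M)}

theorem cardZ (L : LocalData s A Z Z₁) : ∃ n, Nat.card Z = s ^ n := by
  have := Fact.mk L.hs
  exact (IsPGroup.iff_card).mp (isPGroup_of_exp L.Zs)

theorem copMsub (L : LocalData s A Z Z₁) {Z' : Subgroup (MulAut M)} (h : Z' ≤ Z) :
    (Nat.card M).Coprime (Nat.card Z') := by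
  obtain ⟨n, hn⟩ := L.cardZ
  have h1 : Nat.card Z' ∣ s ^ n := hn ▸ Subgroup.card_dvd_of_le h
  exact Nat.Coprime.coprime_dvd_right h1 (Nat.Coprime.pow_right n L.copMs)

theorem copMAsub (L : LocalData s A Z Z₁) {A' : Subgroup (MulAut M)} (h : A' ≤ A) :
    (Nat.card M).Coprime (Nat.card A') :=
  Nat.Coprime.coprime_dvd_right (Subgroup.card_dvd_of_le h) L.copMA

theorem fpf_out (L : LocalData s A Z Z₁) {z : MulAut M} (hz : z ∈ Z) (hz1 : z ∉ Z₁) {w : M}
    (hw : w ∈ comp Z Z₁) (hzw : z w = w) : w = 1 := by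
  rw [mem_comp] at hw
  have h1 : Z ≤ MulAction.stabilizer (MulAut M) w := by
    rw [← L.Z₁max z hz hz1]
    apply sup_le
    · intro y hy
      rw [MulAction.mem_stabilizer_iff]
      exact hw.1 y hy
    · rw [Subgroup.zpowers_le, MulAction.mem_stabilizer_iff]
      exact hzw
  have h2 : trP Z w = w ^ Nat.card ↥Z := by
    apply trP_of_fixed
    intro y hy
    have := h1 hy
    rw [MulAction.mem_stabilizer_iff] at this
    exact this
  rw [hw.2] at h2
  exact pow_eq_one_of_coprime (L.copMsub (le_refl Z)) h2.symm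

theorem comp_Z_inv (L : LocalData s A Z Z₁) {z : MulAut M} (hz : z ∈ Z) {w : M}
    (hw : w ∈ comp Z Z₁) : z w ∈ comp Z Z₁ := by
  rw [mem_comp] at hw ⊢
  refine ⟨fun z₁ hz₁ => ?_, ?_⟩
  · have h1 : z₁ (z w) = (z₁ * z) w := rfl
    rw [h1, L.Zab z₁ (L.Z₁Z hz₁) z hz]
    show z (z₁ w) = z w
    rw [hw.1 z₁ hz₁]
  · rw [trP_apply_mem Z z hz, hw.2]

theorem comp_B_inv (L : LocalData s A Z Z₁) {b : MulAut M}
    (hbZ : b ∈ Subgroup.normalizer (Z : Set (MulAut M)))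
    (hbZ₁ : b ∈ Subgroup.normalizer (Z₁ : Set (MulAut M))) {w : M}
    (hw : w ∈ comp Z Z₁) : b w ∈ comp Z Z₁ := by
  rw [mem_comp] at hw ⊢
  refine ⟨fun z₁ hz₁ => ?_, ?_⟩
  · have h1 : z₁ (b w) = b ((b⁻¹ * z₁ * b) w) := by
      simp only [MulAut.mul_apply, MulAut.apply_inv_self]
    rw [h1, hw.1 _ (nmem' hbZ₁ hz₁)]
  · rw [trP_conj Z b (fun y hy => nmem hbZ hy), hw.2, map_one]

theorem prod_mem_comp (L : LocalData s A Z Z₁) {P : Subgroup (MulAut M)} (hP : P ≤ Z) {w : M}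
    (hw : w ∈ comp Z Z₁) : trP P w ∈ comp Z Z₁ := by
  classical
  haveI : Fintype ↥P := Fintype.ofFinite _
  rw [trP_apply]
  exact Subgroup.prod_mem _ (fun y _ => L.comp_Z_inv (hP y.2) hw)

theorem trP_kill (L : LocalData s A Z Z₁) {a : MulAut M}
    (haZ : a ∈ Subgroup.normalizer (Z : Set (MulAut M)))
    (haZ₁ : a ∉ Subgroup.normalizer (Z₁ : Set (MulAut M))) {w : M}
    (hw : w ∈ comp Z Z₁) : trP Z₁ (a w) = 1 := by
  obtain ⟨Z', hZ'⟩ : ∃ Z' : Subgroup (MulAut M), Z' = Z₁.map (MulAut.conj a⁻¹).toMonoidHom :=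
    ⟨_, rfl⟩
  have hZ'Z : Z' ≤ Z := by
    rw [hZ']
    rintro _ ⟨y, hy, rfl⟩
    have := nmem' haZ (L.Z₁Z hy)
    simpa [MulAut.conj_apply] using this
  have hback : Z'.map (MulAut.conj a).toMonoidHom = Z₁ := by
    rw [hZ', Subgroup.map_map]
    have e : (MulAut.conj a).toMonoidHom.comp (MulAut.conj a⁻¹).toMonoidHom =
        MonoidHom.id (MulAut M) := by
      ext y m
      simp [MulAut.conj_apply]
    rw [e, Subgroup.map_id]
  have h1 : trP Z₁ (a w) = a (trP Z' w) := by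
    rw [← hback]
    exact trP_map_conj Z' a w
  rw [h1]
  suffices h : trP Z' w = 1 by rw [h, map_one]
  have hu : trP Z' w ∈ comp Z Z₁ := L.prod_mem_comp hZ'Z hw
  have hex : ∃ z' ∈ Z', z' ∉ Z₁ := by
    by_contra hcon
    push Not at hcon
    have hle : Z' ≤ Z₁ := hcon
    have hcard : Nat.card Z' = Nat.card Z₁ := by
      rw [hZ']
      exact Subgroup.card_map_of_injective (MulAut.conj a⁻¹).injective
    have heq : Z' = Z₁ := Subgroup.eq_of_le_of_card_ge hle hcard.ge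
    apply haZ₁
    have h2 : a⁻¹ ∈ Subgroup.normalizer (Z₁ : Set (MulAut M)) := by
      rw [Subgroup.mem_normalizer_iff_map_conj_eq]
      exact hZ'.symm.trans heq
    have := inv_mem h2
    rwa [inv_inv] at this
  obtain ⟨z', hz', hz'1⟩ := hex
  exact L.fpf_out (hZ'Z hz') hz'1 hu (mem_apply_trP Z' z' hz' w)

theorem fix_Bn (L : LocalData s A Z Z₁) {w : M} (hw : w ∈ comp Z Z₁)
    (hfix : ∀ b ∈ A, b ∈ Subgroup.normalizer (Z₁ : Set (MulAut M)) → b w = w) : w = 1 := by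
  classical
  haveI : Fintype ↥A := Fintype.ofFinite _
  have hv : trP A w = 1 := by
    apply L.fpfM
    intro a ha
    exact mem_apply_trP A a ha w
  have hwZ₁ : ∀ z ∈ Z₁, z w = w := (mem_comp.mp hw).1
  have h1 : trP Z₁ (trP A w) =
      ∏ a : ↥A, (if (a : MulAut M) ∈ Subgroup.normalizer (Z₁ : Set (MulAut M))
        then w ^ Nat.card ↥Z₁ else 1) := by
    rw [trP_apply A, map_prod]
    apply Finset.prod_congr rfl
    intro a _
    by_cases ha : (a : MulAut M) ∈ Subgroup.normalizer (Z₁ : Set (MulAut M))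
    · rw [if_pos ha, hfix a a.2 ha]
      exact trP_of_fixed Z₁ w hwZ₁
    · rw [if_neg ha]
      exact L.trP_kill (L.AZ a.2) ha hw
  rw [hv, map_one, Finset.prod_ite, Finset.prod_const_one, mul_one, Finset.prod_const,
    ← pow_mul] at h1
  have hk : (Finset.univ.filter
      (fun a : ↥A => (a : MulAut M) ∈ Subgroup.normalizer (Z₁ : Set (MulAut M)))).card ∣
      Nat.card ↥A := by
    have e : (Finset.univ.filter
        (fun a : ↥A => (a : MulAut M) ∈ Subgroup.normalizer (Z₁ : Set (MulAut M)))).card =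
        Nat.card ↥((Subgroup.normalizer (Z₁ : Set (MulAut M))).subgroupOf A) := by
      rw [Nat.card_eq_fintype_card, ← Fintype.card_subtype]
      apply Fintype.card_congr
      exact Equiv.refl _
    rw [e]
    exact Subgroup.card_subgroup_dvd_card _
  apply pow_eq_one_of_coprime _ h1.symm
  exact Nat.Coprime.mul_right (L.copMsub L.Z₁Z) (Nat.Coprime.coprime_dvd_right hk L.copMA)

end LocalData

end Cfsg.Agent.Lib.Helper1.FrobPQ
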