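import Mathlib
import Cfsg.Agent.Lib.Helper1.FrobPQ.Local

set_option autoImplicit false
set_option linter.unusedSectionVars false

namespace Cfsg.Agent.Lib.Helper1.FrobPQ

open Cfsg.Agent.Lib.Helper18.Fpf4 Cfsg.Agent.Lib.Helper1.Ward
open scoped commutatorElement Pointwise

theorem mem_sup_zp {G : Type*} [Group G] {H : Subgroup G} {z x : G}
    (hz : z ∈ Subgroup.normalizer (H : Set G)) (hx : x ∈ H ⊔ Subgroup.zpowers z) :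
    ∃ i : ℤ, ∃ h ∈ H, x = z ^ i * h := by
  have h1 : Subgroup.zpowers z ≤ Subgroup.normalizer (H : Set G) := by
    rw [Subgroup.zpowers_le]; exact hz
  have h2 : x ∈ ((Subgroup.zpowers z ⊔ H : Subgroup G) : Set G) := by
    rw [sup_comm]; exact hx
  rw [Subgroup.coe_mul_of_left_le_normalizer_right (Subgroup.zpowers z) H h1] at h2
  obtain ⟨a, ha, b, hb, rfl⟩ := h2
  obtain ⟨i, rfl⟩ := ha
  exact ⟨i, b, hb, rfl⟩

variable {M : Type*} [CommGroup M] [Finite M]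

namespace LocalData

variable {s : ℕ} {A Z Z₁ : Subgroup (MulAut M)}

theorem Z_norm_Z₁ (L : LocalData s A Z Z₁) : Z ≤ Subgroup.normalizer (Z₁ : Set (MulAut M)) := by
  apply conj_mem_of_normalizer_le
  intro g hg u hu
  have h1 : g * u * g⁻¹ = u := by
    rw [L.Zab g hg u (L.Z₁Z hu)]; group
  rw [h1]; exact hu

theorem stab_le_norm (L : LocalData s A Z Z₁) :
    stabMod Z Z₁ ≤ Subgroup.normalizer (Z₁ : Set (MulAut M)) := by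
  apply conj_mem_of_normalizer_le
  intro g hg u hu
  have h1 := hg.2 u (L.Z₁Z hu)
  have e : g * u * g⁻¹ = u * (u⁻¹ * (g * u * g⁻¹)) := by group
  rw [e]
  exact mul_mem hu h1

theorem exists_out (L : LocalData s A Z Z₁) : ∃ z₀ ∈ Z, z₀ ∉ Z₁ := by
  by_contra h
  push Not at h
  exact L.Z₁ne (le_antisymm L.Z₁Z h)

theorem mem_stab_of (L : LocalData s A Z Z₁) {g : MulAut M}
    (hgZ : g ∈ Subgroup.normalizer (Z : Set (MulAut M)))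
    (hgZ₁ : g ∈ Subgroup.normalizer (Z₁ : Set (MulAut M))) {z₀ : MulAut M} (hz₀ : z₀ ∈ Z)
    (hz₀1 : z₀ ∉ Z₁) (h : z₀⁻¹ * (g * z₀ * g⁻¹) ∈ Z₁) : g ∈ stabMod Z Z₁ := by
  refine ⟨hgZ, ?_⟩
  have h1 : Z ≤ fixMod Z₁ g := by
    rw [← L.Z₁max z₀ hz₀ hz₀1]
    apply sup_le
    · intro y hy
      refine ⟨Subgroup.le_normalizer hy, mul_mem (inv_mem hy) (nmem hgZ₁ hy)⟩
    · rw [Subgroup.zpowers_le]
      exact ⟨L.Z_norm_Z₁ hz₀, h⟩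
  intro y hy
  exact (h1 hy).2

theorem exists_pow_form (L : LocalData s A Z Z₁) {g : MulAut M}
    (hgZ : g ∈ Subgroup.normalizer (Z : Set (MulAut M))) {z₀ : MulAut M} (hz₀ : z₀ ∈ Z)
    (hz₀1 : z₀ ∉ Z₁) : ∃ i : ℤ, ∃ u ∈ Z₁, g * z₀ * g⁻¹ = z₀ ^ i * u := by
  have h1 : g * z₀ * g⁻¹ ∈ Z₁ ⊔ Subgroup.zpowers z₀ := by
    rw [L.Z₁max z₀ hz₀ hz₀1]
    exact nmem hgZ hz₀
  exact mem_sup_zp (L.Z_norm_Z₁ hz₀) h1

theorem pow_form_mul (L : LocalData s A Z Z₁) {g g' : MulAut M}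
    (hgZ₁ : g ∈ Subgroup.normalizer (Z₁ : Set (MulAut M))) {z₀ : MulAut M} (hz₀ : z₀ ∈ Z)
    {i j : ℤ} {u u' : MulAut M} (hu : u ∈ Z₁) (hu' : u' ∈ Z₁)
    (h : g * z₀ * g⁻¹ = z₀ ^ i * u) (h' : g' * z₀ * g'⁻¹ = z₀ ^ j * u') :
    ∃ v ∈ Z₁, (g * g') * z₀ * (g * g')⁻¹ = z₀ ^ (i * j) * v := by
  refine ⟨u ^ j * (g * u' * g⁻¹), mul_mem (zpow_mem hu j) (nmem hgZ₁ hu'), ?_⟩
  have e1 : (g * g') * z₀ * (g * g')⁻¹ = g * (g' * z₀ * g'⁻¹) * g⁻¹ := by group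
  have e2 : g * (z₀ ^ j * u') * g⁻¹ = (g * z₀ * g⁻¹) ^ j * (g * u' * g⁻¹) := by
    have : (g * z₀ * g⁻¹) ^ j = g * z₀ ^ j * g⁻¹ := by
      rw [← MulAut.conj_apply, ← MulAut.conj_apply, map_zpow]
    rw [this]; group
  have hc : Commute (z₀ ^ i) u := by
    have : Commute z₀ u := L.Zab z₀ hz₀ u (L.Z₁Z hu)
    exact this.zpow_left i
  rw [e1, h', e2, h, hc.mul_zpow, ← zpow_mul, mul_assoc]

theorem comm_mem (L : LocalData s A Z Z₁) {b b' : MulAut M}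
    (hbZ : b ∈ Subgroup.normalizer (Z : Set (MulAut M)))
    (hbZ₁ : b ∈ Subgroup.normalizer (Z₁ : Set (MulAut M)))
    (hb'Z : b' ∈ Subgroup.normalizer (Z : Set (MulAut M)))
    (hb'Z₁ : b' ∈ Subgroup.normalizer (Z₁ : Set (MulAut M))) :
    (b' * b)⁻¹ * (b * b') ∈ stabMod Z Z₁ := by
  obtain ⟨z₀, hz₀, hz₀1⟩ := L.exists_out
  obtain ⟨i, u, hu, h⟩ := L.exists_pow_form hbZ hz₀ hz₀1
  obtain ⟨j, u', hu', h'⟩ := L.exists_pow_form hb'Z hz₀ hz₀1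
  obtain ⟨v₁, hv₁, e₁⟩ := L.pow_form_mul hbZ₁ hz₀ hu hu' h h'
  obtain ⟨v₂, hv₂, e₂⟩ := L.pow_form_mul hb'Z₁ hz₀ hu' hu h' h
  have hYZ : b' * b ∈ Subgroup.normalizer (Z : Set (MulAut M)) := mul_mem hb'Z hbZ
  have hYZ₁ : b' * b ∈ Subgroup.normalizer (Z₁ : Set (MulAut M)) := mul_mem hb'Z₁ hbZ₁
  have hXZ : b * b' ∈ Subgroup.normalizer (Z : Set (MulAut M)) := mul_mem hbZ hb'Z
  have hXZ₁ : b * b' ∈ Subgroup.normalizer (Z₁ : Set (MulAut M)) := mul_mem hbZ₁ hb'Z₁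
  apply L.mem_stab_of (mul_mem (inv_mem hYZ) hXZ) (mul_mem (inv_mem hYZ₁) hXZ₁) hz₀ hz₀1
  have key : z₀⁻¹ * ((b' * b)⁻¹ * (b * b') * z₀ * ((b' * b)⁻¹ * (b * b'))⁻¹) =
      (b' * b)⁻¹ * (v₂⁻¹ * v₁) * (b' * b) := by
    have e3 : (b' * b)⁻¹ * (b * b') * z₀ * ((b' * b)⁻¹ * (b * b'))⁻¹ =
        (b' * b)⁻¹ * ((b * b') * z₀ * (b * b')⁻¹) * (b' * b) := by group
    have e₂' : b' * b * z₀ * (b' * b)⁻¹ = z₀ ^ (i * j) * v₂ := by rw [e₂, mul_comm j i]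
    have hk : z₀ ^ (i * j) = b' * b * z₀ * (b' * b)⁻¹ * v₂⁻¹ := by rw [e₂']; group
    rw [e3, e₁, hk]
    group
  rw [key]
  exact nmem' hYZ₁ (mul_mem (inv_mem hv₂) hv₁)

end LocalData

end Cfsg.Agent.Lib.Helper1.FrobPQ
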