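import Mathlib

set_option autoImplicit false

namespace Cfsg.Agent.Lib.Helper1.FrobPQ

variable {G : Type*} [Group G]

structure PQ (p q : ℕ) (A : Subgroup G) : Prop where
  hp : p.Prime
  hq : q.Prime
  card : Nat.card A = p * q
  nonab : ¬ ∀ a ∈ A, ∀ b ∈ A, a * b = b * a

theorem dvd_pq {p q k : ℕ} (hp : p.Prime) (hq : q.Prime) (hk : k ∣ p * q) :
    k = 1 ∨ k = p ∨ k = q ∨ k = p * q := by
  obtain ⟨k₁, k₂, h1, h2, rfl⟩ := (Nat.dvd_mul).mp hk
  rcases (Nat.dvd_prime hp).mp h1 with rfl | rfl <;> rcases (Nat.dvd_prime hq).mp h2 with rfl | rfl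
  · left; rfl
  · right; right; left; simp
  · right; left; simp
  · right; right; right; rfl

theorem card_mul_relIndex' [Finite G] {H K : Subgroup G} (hHK : H ≤ K) :
    Nat.card H * H.relIndex K = Nat.card K := by
  have h1 := (H.subgroupOf K).card_mul_index
  have h2 : Nat.card (H.subgroupOf K) = Nat.card H :=
    Nat.card_congr (Subgroup.subgroupOfEquivOfLe hHK).toEquiv
  rw [h2] at h1
  exact h1

namespace PQ

variable {p q : ℕ} {A : Subgroup G}

theorem finite (h : PQ p q A) : Finite A := by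
  apply Nat.finite_of_card_ne_zero
  rw [h.card]
  exact Nat.mul_ne_zero h.hp.pos.ne' h.hq.pos.ne'

theorem prime_card_of_ne [Finite G] (h : PQ p q A) {B : Subgroup G} (hBA : B ≤ A) (hB1 : B ≠ ⊥)
    (hBA' : B ≠ A) : (Nat.card B).Prime := by
  have h1 : Nat.card B ∣ p * q := h.card ▸ Subgroup.card_dvd_of_le hBA
  rcases dvd_pq h.hp h.hq h1 with h2 | h2 | h2 | h2
  · exact absurd (Subgroup.card_eq_one.mp h2) hB1
  · rw [h2]; exact h.hp
  · rw [h2]; exact h.hq
  · exfalso
    apply hBA'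
    exact Subgroup.eq_of_le_of_card_ge hBA (by rw [h2, h.card])

theorem zpowers_eq_of_prime_card [Finite G] {B : Subgroup G} (hB : (Nat.card B).Prime) {x : G}
    (hx : x ∈ B) (hx1 : x ≠ 1) : Subgroup.zpowers x = B := by
  have := Fact.mk hB
  have h1 : Subgroup.zpowers (⟨x, hx⟩ : ↥B) = ⊤ := by
    apply zpowers_eq_top_of_prime_card (p := Nat.card B) rfl
    intro h
    exact hx1 (congrArg Subtype.val h)
  apply le_antisymm
  · rw [Subgroup.zpowers_le]; exact hx
  · intro y hy
    have h2 : (⟨y, hy⟩ : ↥B) ∈ Subgroup.zpowers (⟨x, hx⟩ : ↥B) := by rw [h1]; exact Subgroup.mem_top _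
    obtain ⟨i, hi⟩ := h2
    refine ⟨i, ?_⟩
    have := congrArg Subtype.val hi
    simpa using this

theorem exists_gen [Finite G] (h : PQ p q A) {H K : Subgroup G} (hHK : H ≤ K) (hKA : K ≤ A)
    (hKH : K ≤ Subgroup.normalizer (H : Set G))
    (hcomm : ∀ b ∈ K, ∀ b' ∈ K, (b' * b)⁻¹ * (b * b') ∈ H) {b : G} (hb : b ∈ K) (hbH : b ∉ H) :
    ∃ o : ℕ, o.Prime ∧ o ∣ p * q ∧ b ^ o ∈ H ∧ K ≤ H ⊔ Subgroup.zpowers b := by
  have hcard := card_mul_relIndex' hHK
  have hk1 : H.relIndex K ≠ 1 := by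
    intro h1
    exact hbH (Subgroup.relIndex_eq_one.mp h1 hb)
  have hKpq : Nat.card K ∣ p * q := h.card ▸ Subgroup.card_dvd_of_le hKA
  have hkdvd : H.relIndex K ∣ p * q := dvd_trans (Dvd.intro_left _ hcard) hKpq
  have hprime : (H.relIndex K).Prime := by
    rcases dvd_pq h.hp h.hq hkdvd with h2 | h2 | h2 | h2
    · exact absurd h2 hk1
    · rw [h2]; exact h.hp
    · rw [h2]; exact h.hq
    · exfalso
      have hpos : 0 < p * q := Nat.mul_pos h.hp.pos h.hq.pos
      have hH1 : Nat.card H = 1 := by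
        rw [h2] at hcard
        have h3 : Nat.card H * (p * q) ≤ p * q := by
          rw [hcard]; exact Nat.le_of_dvd hpos hKpq
        have h4 : 0 < Nat.card H := Nat.card_pos
        nlinarith
      have hKc : Nat.card K = p * q := by rw [← hcard, hH1, h2, one_mul]
      have hKA' : K = A := Subgroup.eq_of_le_of_card_ge hKA (by rw [hKc, h.card])
      have hHbot : H = ⊥ := Subgroup.card_eq_one.mp hH1
      apply h.nonab
      intro a ha a' ha'
      have h5 := hcomm a (hKA' ▸ ha) a' (hKA' ▸ ha')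
      rw [hHbot, Subgroup.mem_bot, inv_mul_eq_one] at h5
      exact h5.symm
  refine ⟨H.relIndex K, hprime, hkdvd, ?_, ?_⟩
  · have hn : (H.subgroupOf K).Normal := Subgroup.normal_subgroupOf_of_le_normalizer hKH
    have h1 : ((⟨b, hb⟩ : ↥K) : ↥K ⧸ H.subgroupOf K) ^ (H.subgroupOf K).index = 1 := by
      rw [Subgroup.index_eq_card]
      exact pow_card_eq_one'
    rw [← QuotientGroup.mk_pow, QuotientGroup.eq_one_iff, Subgroup.mem_subgroupOf] at h1
    exact h1
  · have hHL : H ≤ H ⊔ Subgroup.zpowers b := le_sup_left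
    have hLK : H ⊔ Subgroup.zpowers b ≤ K := sup_le hHK (by rw [Subgroup.zpowers_le]; exact hb)
    have h1 := Subgroup.relIndex_mul_relIndex H (H ⊔ Subgroup.zpowers b) K hHL hLK
    rcases (Nat.dvd_prime hprime).mp (Dvd.intro _ h1) with h2 | h2
    · exfalso
      apply hbH
      apply Subgroup.relIndex_eq_one.mp h2
      exact le_sup_right (a := H) (Subgroup.mem_zpowers b)
    · rw [h2] at h1
      have h3 : (H ⊔ Subgroup.zpowers b).relIndex K = 1 := by
        have hpos : 0 < H.relIndex K := hprime.pos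
        nlinarith
      exact Subgroup.relIndex_eq_one.mp h3

end PQ

end Cfsg.Agent.Lib.Helper1.FrobPQ
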