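import Mathlib
import Cfsg.Agent.Lib.Helper1.FrobPQ.PQ
import Cfsg.Agent.Lib.Helper1.FrobPQ.LocalB

set_option autoImplicit false

namespace Cfsg.Agent.Lib.Helper1.FrobPQ

open Cfsg.Agent.Lib.Helper1.Ward

variable {G : Type*} [Group G] [Finite G]

structure FrobA (p q : ℕ) (A F : Subgroup G) : Prop extends PQ p q A where
  FA : F ≤ A
  cardF : Nat.card F = p
  AF : A ≤ Subgroup.normalizer (F : Set G)

namespace FrobA

variable {p q : ℕ} {A F : Subgroup G}

theorem F_eq_zpowers (h : FrobA p q A F) {f : G} (hf : f ∈ F) (hf1 : f ≠ 1) :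
    Subgroup.zpowers f = F :=
  PQ.zpowers_eq_of_prime_card (by rw [h.cardF]; exact h.hp) hf hf1

theorem F_comm (h : FrobA p q A F) : ∀ a ∈ F, ∀ b ∈ F, a * b = b * a := by
  intro a ha b hb
  by_cases ha1 : a = 1
  · rw [ha1, one_mul, mul_one]
  have h1 := h.F_eq_zpowers ha ha1
  rw [← h1] at hb
  obtain ⟨i, rfl⟩ := hb
  exact ((Commute.refl a).zpow_right i).eq

theorem sup_zpowers_eq (h : FrobA p q A F) {x : G} (hx : x ∈ A) (hxF : x ∉ F) :
    F ⊔ Subgroup.zpowers x = A := by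
  have hle : F ⊔ Subgroup.zpowers x ≤ A := sup_le h.FA (by rw [Subgroup.zpowers_le]; exact hx)
  have h1 := card_mul_relIndex' (le_sup_left : F ≤ F ⊔ Subgroup.zpowers x)
  have h2 : Nat.card ↥(F ⊔ Subgroup.zpowers x) ∣ p * q := h.card ▸ Subgroup.card_dvd_of_le hle
  rw [← h1, h.cardF] at h2
  have h3 : F.relIndex (F ⊔ Subgroup.zpowers x) ∣ q :=
    Nat.dvd_of_mul_dvd_mul_left h.hp.pos h2
  have h4 : F.relIndex (F ⊔ Subgroup.zpowers x) ≠ 1 := by
    intro h5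
    apply hxF
    exact Subgroup.relIndex_eq_one.mp h5 (le_sup_right (a := F) (Subgroup.mem_zpowers x))
  have h5 : F.relIndex (F ⊔ Subgroup.zpowers x) = q := by
    rcases (Nat.dvd_prime h.hq).mp h3 with h6 | h6
    · exact absurd h6 h4
    · exact h6
  apply Subgroup.eq_of_le_of_card_ge hle
  rw [← h1, h.cardF, h5, h.card]

theorem free (h : FrobA p q A F) {x : G} (hx : x ∈ A) (hxF : x ∉ F) {g : G} (hg : g ∈ F)
    (hxg : x * g = g * x) : g = 1 := by
  by_contra hg1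
  apply h.nonab
  have hFz := h.F_eq_zpowers hg hg1
  have hsup := h.sup_zpowers_eq hx hxF
  have hxc : ∀ f ∈ F, x * f = f * x := by
    intro f hf
    rw [← hFz] at hf
    obtain ⟨i, rfl⟩ := hf
    exact ((show Commute x g from hxg).zpow_right i).eq
  have hFn : Subgroup.zpowers x ≤ Subgroup.normalizer (F : Set G) := by
    rw [Subgroup.zpowers_le]; exact h.AF hx
  have hdecomp : ∀ a ∈ A, ∃ f ∈ F, ∃ i : ℤ, a = x ^ i * f := by
    intro a ha
    rw [← hsup] at ha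
    obtain ⟨i, f, hf, rfl⟩ := mem_sup_zp (h.AF hx) ha
    exact ⟨f, hf, i, rfl⟩
  intro a ha b hb
  obtain ⟨f₁, hf₁, i, rfl⟩ := hdecomp a ha
  obtain ⟨f₂, hf₂, j, rfl⟩ := hdecomp b hb
  have c1 : Commute (x ^ i) f₂ := (show Commute x f₂ from hxc f₂ hf₂).zpow_left i
  have c2 : Commute (x ^ j) f₁ := (show Commute x f₁ from hxc f₁ hf₁).zpow_left j
  have c3 : Commute f₁ f₂ := h.F_comm f₁ hf₁ f₂ hf₂
  have c4 : Commute (x ^ i) (x ^ j) := ((Commute.refl x).zpow_left i).zpow_right j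
  calc x ^ i * f₁ * (x ^ j * f₂) = x ^ i * (f₁ * x ^ j) * f₂ := by group
    _ = x ^ i * (x ^ j * f₁) * f₂ := by rw [c2.eq]
    _ = (x ^ i * x ^ j) * (f₁ * f₂) := by group
    _ = (x ^ j * x ^ i) * (f₂ * f₁) := by rw [c4.eq, c3.eq]
    _ = x ^ j * (x ^ i * f₂) * f₁ := by group
    _ = x ^ j * (f₂ * x ^ i) * f₁ := by rw [c1.eq]
    _ = x ^ j * f₂ * (x ^ i * f₁) := by group

theorem pow_q_mem (h : FrobA p q A F) {x : G} (hx : x ∈ A) : x ^ q ∈ F := by
  have hn : (F.subgroupOf A).Normal := Subgroup.normal_subgroupOf_of_le_normalizer h.AF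
  have hidx : (F.subgroupOf A).index = q := by
    have h1 := card_mul_relIndex' h.FA
    rw [h.cardF, h.card] at h1
    exact Nat.eq_of_mul_eq_mul_left h.hp.pos h1
  have h1 : ((⟨x, hx⟩ : ↥A) : ↥A ⧸ F.subgroupOf A) ^ (F.subgroupOf A).index = 1 := by
    rw [Subgroup.index_eq_card]
    exact pow_card_eq_one'
  rw [hidx, ← QuotientGroup.mk_pow, QuotientGroup.eq_one_iff, Subgroup.mem_subgroupOf] at h1
  exact h1

theorem pow_q_eq_one (h : FrobA p q A F) {x : G} (hx : x ∈ A) (hxF : x ∉ F) : x ^ q = 1 := by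
  apply h.free hx hxF (h.pow_q_mem hx)
  rw [← pow_succ', ← pow_succ]

theorem pow_p_eq_one (h : FrobA p q A F) {f : G} (hf : f ∈ F) : f ^ p = 1 := by
  have h1 : (⟨f, hf⟩ : ↥F) ^ Nat.card F = 1 := pow_card_eq_one'
  rw [h.cardF] at h1
  exact congrArg Subtype.val h1

theorem exists_gen_F (h : FrobA p q A F) : ∃ f ∈ F, f ≠ 1 := by
  have h1 : F ≠ ⊥ := by
    intro hb
    have := h.cardF
    rw [hb, Subgroup.card_bot] at this
    exact h.hp.one_lt.ne this
  obtain ⟨f, hf1⟩ := (Subgroup.ne_bot_iff_exists_ne_one).mp h1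
  exact ⟨f, f.2, fun hf => hf1 (Subtype.ext hf)⟩

theorem exists_out (h : FrobA p q A F) : ∃ x ∈ A, x ∉ F := by
  by_contra hcon
  push Not at hcon
  apply h.nonab
  intro a ha b hb
  exact h.F_comm a (hcon a ha) b (hcon b hb)

theorem normal_sub_bot (h : FrobA p q A F) {N : Subgroup G} (hNA : N ≤ A)
    (hAN : A ≤ Subgroup.normalizer (N : Set G)) (hFN : ¬ F ≤ N) : N = ⊥ := by
  rw [eq_bot_iff]
  intro n hn
  rw [Subgroup.mem_bot]
  have hFN' : ∀ f ∈ F, f ∈ N → f = 1 := by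
    intro f hf hfN
    by_contra hf1
    apply hFN
    rw [← h.F_eq_zpowers hf hf1, Subgroup.zpowers_le]
    exact hfN
  have hcomm : ∀ f ∈ F, n * f = f * n := by
    intro f hf
    have h1 : n * f * n⁻¹ * f⁻¹ ∈ F := mul_mem (nmem (h.AF (hNA hn)) hf) (inv_mem hf)
    have h2 : n * f * n⁻¹ * f⁻¹ ∈ N := by
      have : n * f * n⁻¹ * f⁻¹ = n * (f * n⁻¹ * f⁻¹) := by group
      rw [this]
      exact mul_mem hn (nmem (hAN (h.FA hf)) (inv_mem hn))
    have h3 := hFN' _ h1 h2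
    calc n * f = (n * f * n⁻¹ * f⁻¹) * (f * n) := by group
      _ = f * n := by rw [h3, one_mul]
  by_cases hnF : n ∈ F
  · exact hFN' n hnF hn
  · exfalso
    obtain ⟨f, hf, hf1⟩ := h.exists_gen_F
    exact hf1 (h.free (hNA hn) hnF hf (hcomm f hf))

end FrobA

end Cfsg.Agent.Lib.Helper1.FrobPQ
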