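import Mathlib
import Cfsg.Agent.Lib.Helper1.FrobPQ.LocalB
import Cfsg.Agent.Lib.Helper1.FrobPQ.PQ

set_option autoImplicit false
set_option linter.unusedSectionVars false

namespace Cfsg.Agent.Lib.Helper1.FrobPQ

open Cfsg.Agent.Lib.Helper18.Fpf4 Cfsg.Agent.Lib.Helper1.Ward
open scoped commutatorElement

variable {M : Type*} [CommGroup M] [Finite M]

namespace LocalData

variable {s : ℕ} {A Z Z₁ : Subgroup (MulAut M)}

theorem not_le_stab (L : LocalData s A Z Z₁) : ¬ A ≤ stabMod Z Z₁ := by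
  intro hA
  obtain ⟨z, hz, hz1⟩ := L.exists_out
  have hcop : (Nat.card A).Coprime (Nat.card Z) := by
    obtain ⟨n, hn⟩ := L.cardZ
    rw [hn]
    exact Nat.Coprime.pow_right n L.copAs
  have hsolv : Group.IsSolvable Z :=
    Group.isSolvable_of_comm (fun a b => Subtype.ext (L.Zab a.1 a.2 b.1 b.2))
  obtain ⟨c, hc, hzc⟩ := Cfsg.Agent.S0022.result A Z L.AZ hcop (Or.inr hsolv) Z₁ L.Z₁Z L.Z_norm_Z₁
    (hA.trans L.stab_le_norm) z hz (by
      intro a ha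
      have h1 := (hA ha).2 z hz
      have h2 : a * z * a⁻¹ ∈ Z := nmem (L.AZ ha) hz
      have e : a * z * a⁻¹ * z⁻¹ = z⁻¹ * (a * z * a⁻¹) := L.Zab _ h2 _ (inv_mem hz)
      rw [e]
      exact h1)
  have hc1 : c = 1 := by
    apply L.fpfZ c hc.1
    intro a ha
    exact (Subgroup.mem_centralizer_iff.mp hc.2 a ha)
  rw [hc1, mul_one] at hzc
  exact hz1 (by simpa using inv_mem hzc)

theorem fix_B0 (L : LocalData s A Z Z₁) {p q : ℕ} (hA : PQ p q A) {w : M} (hw : w ∈ comp Z Z₁)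
    (hfix : ∀ b ∈ A, b ∈ stabMod Z Z₁ → b w = w) : w = 1 := by
  by_contra hw1
  by_cases hBB : ∀ b ∈ A, b ∈ Subgroup.normalizer (Z₁ : Set (MulAut M)) → b ∈ stabMod Z Z₁
  · exact hw1 (L.fix_Bn hw (fun b hb hbn => hfix b hb (hBB b hb hbn)))
  push Not at hBB
  obtain ⟨b, hbA, hbn, hbs⟩ := hBB
  obtain ⟨K, hK⟩ : ∃ K : Subgroup (MulAut M), K = A ⊓ Subgroup.normalizer (Z₁ : Set (MulAut M)) :=
    ⟨_, rfl⟩
  obtain ⟨H, hH⟩ : ∃ H : Subgroup (MulAut M), H = A ⊓ stabMod Z Z₁ := ⟨_, rfl⟩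
  have hHK : H ≤ K := by
    rw [hH, hK]
    exact inf_le_inf_left A L.stab_le_norm
  have hKA : K ≤ A := by rw [hK]; exact inf_le_left
  have hKZ : K ≤ Subgroup.normalizer (Z : Set (MulAut M)) := hKA.trans L.AZ
  have hKZ₁ : K ≤ Subgroup.normalizer (Z₁ : Set (MulAut M)) := by rw [hK]; exact inf_le_right
  have hKH : K ≤ Subgroup.normalizer (H : Set (MulAut M)) := by
    rw [hH]
    exact normalizer_inf (hKA.trans Subgroup.le_normalizer) (normalizer_stabMod hKZ hKZ₁)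
  have hbK : b ∈ K := by rw [hK]; exact ⟨hbA, hbn⟩
  have hbH : b ∉ H := by rw [hH]; exact fun h => hbs h.2
  obtain ⟨o, ho, hopq, hbo, hgen⟩ := hA.exists_gen hHK hKA hKH (by
    intro c hc c' hc'
    rw [hH]
    refine Subgroup.mem_inf.mpr
      ⟨mul_mem (inv_mem (mul_mem (hKA hc') (hKA hc))) (mul_mem (hKA hc) (hKA hc')), ?_⟩
    exact L.comm_mem (hKZ hc) (hKZ₁ hc) (hKZ hc') (hKZ₁ hc')) hbK hbH
  obtain ⟨W₀, hW₀⟩ : ∃ W₀ : Subgroup M, W₀ = comp Z Z₁ ⊓ fixSub (H : Set (MulAut M)) := ⟨_, rfl⟩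
  have hmemW₀ : ∀ m : M, m ∈ W₀ ↔ m ∈ comp Z Z₁ ∧ ∀ c ∈ H, c m = m := by
    intro m
    rw [hW₀, Subgroup.mem_inf]
    rfl
  have hwW₀ : w ∈ W₀ := by
    rw [hmemW₀]
    refine ⟨hw, fun c hc => ?_⟩
    rw [hH] at hc
    exact hfix c hc.1 hc.2
  have hZW₀ : Z ≤ stabS W₀ := by
    intro z hz
    apply mem_stabS_of_forall
    intro m hm
    rw [hmemW₀] at hm ⊢
    refine ⟨L.comp_Z_inv hz hm.1, fun c hc => ?_⟩
    have hcs : c ∈ stabMod Z Z₁ := by rw [hH] at hc; exact hc.2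
    have h1 := hcs.2 z hz
    have h2 : c (z m) = z ((z⁻¹ * (c * z * c⁻¹)) (c m)) := by
      simp only [MulAut.mul_apply, MulAut.apply_inv_self, MulAut.inv_apply_self]
    rw [h2, hm.2 c hc, (mem_comp.mp hm.1).1 _ h1]
  have hKW₀ : K ≤ stabS W₀ := by
    intro c hc
    apply mem_stabS_of_forall
    intro m hm
    rw [hmemW₀] at hm ⊢
    refine ⟨L.comp_B_inv (hKZ hc) (hKZ₁ hc) hm.1, fun d hd => ?_⟩
    have h1 : c⁻¹ * d * c ∈ H := nmem' (hKH hc) hd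
    have h2 : d (c m) = c ((c⁻¹ * d * c) m) := by
      simp only [MulAut.mul_apply, MulAut.apply_inv_self]
    rw [h2, hm.2 _ h1]
  obtain ⟨T, hT⟩ : ∃ T : Subgroup (MulAut ↥W₀), T = (Z.subgroupOf (stabS W₀)).map (resHom W₀) :=
    ⟨_, rfl⟩
  obtain ⟨β, hβ⟩ : ∃ β : MulAut ↥W₀, β = resHom W₀ ⟨b, hKW₀ hbK⟩ := ⟨_, rfl⟩
  have hmemT : ∀ z (hz : z ∈ Z), resHom W₀ ⟨z, hZW₀ hz⟩ ∈ T := by
    intro z hz
    rw [hT]
    exact Subgroup.mem_map_of_mem _ (Subgroup.mem_subgroupOf.mpr hz)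
  have hTcomm : ∀ t ∈ T, ∀ t' ∈ T, t * t' = t' * t := by
    rw [hT]
    rintro _ ⟨t₁, ht₁, rfl⟩ _ ⟨t₂, ht₂, rfl⟩
    have ht₁ : (t₁ : MulAut M) ∈ Z := Subgroup.mem_subgroupOf.mp ht₁
    have ht₂ : (t₂ : MulAut M) ∈ Z := Subgroup.mem_subgroupOf.mp ht₂
    rw [← map_mul, ← map_mul]
    congr 1
    exact Subtype.ext (L.Zab _ ht₁ _ ht₂)
  have hβo : β ^ o = 1 := by
    rw [hβ, ← map_pow, resHom_eq_one_iff]
    intro m hm
    exact ((hmemW₀ m).mp hm).2 _ hbo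
  have hβT : β ∈ Subgroup.normalizer (T : Set (MulAut ↥W₀)) := by
    rw [hT, hβ]
    apply Subgroup.le_normalizer_map (resHom W₀)
    apply Subgroup.mem_map_of_mem
    rw [Subgroup.mem_normalizer_iff]
    intro h
    rw [Subgroup.mem_subgroupOf, Subgroup.mem_subgroupOf]
    exact Subgroup.mem_normalizer_iff.mp (hKZ hbK) h
  have hβfpf : ∀ m : ↥W₀, β m = m → m = 1 := by
    intro m hm
    have h1 : b (m : M) = (m : M) := by
      have := congrArg Subtype.val hm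
      rw [hβ, resHom_apply] at this
      exact this
    have hm' := (hmemW₀ m).mp m.2
    apply Subtype.ext
    apply L.fix_Bn hm'.1
    intro c hcA hcn
    have hcK : c ∈ K := by rw [hK]; exact ⟨hcA, hcn⟩
    have h2 : H ⊔ Subgroup.zpowers b ≤ MulAction.stabilizer (MulAut M) (m : M) := by
      apply sup_le
      · intro d hd
        rw [MulAction.mem_stabilizer_iff]
        exact hm'.2 d hd
      · rw [Subgroup.zpowers_le, MulAction.mem_stabilizer_iff]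
        exact h1
    have h3 := h2 (hgen hcK)
    rw [MulAction.mem_stabilizer_iff] at h3
    exact h3
  have hcardT : Nat.card T ∣ Nat.card Z := by
    rw [hT]
    have h1 := Subgroup.card_map_dvd (H := Z.subgroupOf (stabS W₀)) (resHom W₀)
    have h2 : Nat.card (Z.subgroupOf (stabS W₀)) = Nat.card Z :=
      Nat.card_congr (Subgroup.subgroupOfEquivOfLe hZW₀).toEquiv
    rwa [h2] at h1
  have hoA : o ∣ Nat.card A := by rw [hA.card]; exact hopq
  have hTo : (Nat.card T).Coprime o := by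
    obtain ⟨n, hn⟩ := L.cardZ
    have h1 : Nat.card T ∣ s ^ n := hn ▸ hcardT
    have h2 : (s ^ n).Coprime o :=
      Nat.Coprime.pow_left n (Nat.Coprime.coprime_dvd_right hoA L.copAs.symm)
    exact Nat.Coprime.coprime_dvd_left h1 h2
  have hMT : (Nat.card ↥W₀).Coprime (Nat.card T) := by
    have h1 : Nat.card ↥W₀ ∣ Nat.card M := Subgroup.card_subgroup_dvd_card W₀
    exact Nat.Coprime.coprime_dvd_left h1
      (Nat.Coprime.coprime_dvd_right hcardT (L.copMsub (le_refl Z)))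
  have key := frob_commute T β ho hTcomm hβo hβT hβfpf hTo hMT
  apply hbs
  refine ⟨hKZ hbK, fun y hy => ?_⟩
  by_contra hy1
  apply hw1
  have hz' : y⁻¹ * (b * y * b⁻¹) ∈ Z := mul_mem (inv_mem hy) (nmem (hKZ hbK) hy)
  apply L.fpf_out hz' hy1 hw
  have hb' : b⁻¹ ∈ stabS W₀ := inv_mem (hKW₀ hbK)
  have hu : b⁻¹ w ∈ W₀ := apply_mem_of_mem_stabS hb' hwW₀
  have h1 := key _ (hmemT y hy)
  have h2 := congrArg (fun e : MulAut ↥W₀ => ((e ⟨b⁻¹ w, hu⟩ : ↥W₀) : M)) h1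
  simp only [hβ, MulAut.mul_apply, resHom_apply] at h2
  have h3 : (y⁻¹ * (b * y * b⁻¹)) w = y⁻¹ (b (y (b⁻¹ w))) := by
    simp only [MulAut.mul_apply]
  rw [h3, h2]
  simp

theorem local_main (L : LocalData s A Z Z₁) {p q : ℕ} (hA : PQ p q A) :
    ∃ x ∈ A, x ≠ 1 ∧ x ∈ stabMod Z Z₁ ∧ (∀ w ∈ comp Z Z₁, x w = w → w = 1) := by
  obtain ⟨H, hH⟩ : ∃ H : Subgroup (MulAut M), H = A ⊓ stabMod Z Z₁ := ⟨_, rfl⟩
  have hHA : H ≤ A := by rw [hH]; exact inf_le_left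
  have hH1 : H ≠ ⊥ := by
    intro hbot
    obtain ⟨w, hw1⟩ := (Subgroup.ne_bot_iff_exists_ne_one).mp L.compne
    apply hw1
    apply Subtype.ext
    apply L.fix_B0 hA w.2
    intro b hb hbs
    have : b ∈ H := by rw [hH]; exact ⟨hb, hbs⟩
    rw [hbot, Subgroup.mem_bot] at this
    rw [this]
    rfl
  have hH2 : H ≠ A := by
    intro h
    apply L.not_le_stab
    rw [← h, hH]
    exact inf_le_right
  have hprime := hA.prime_card_of_ne hHA hH1 hH2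
  obtain ⟨x, hx1⟩ := (Subgroup.ne_bot_iff_exists_ne_one).mp hH1
  have hx1' : (x : MulAut M) ≠ 1 := fun h => hx1 (Subtype.ext h)
  have hgen := PQ.zpowers_eq_of_prime_card hprime x.2 hx1'
  refine ⟨x, hHA x.2, hx1', ?_, ?_⟩
  · have h1 : H ≤ stabMod Z Z₁ := by rw [hH]; exact inf_le_right
    exact h1 x.2
  · intro w hw hxw
    apply L.fix_B0 hA hw
    intro b hb hbs
    have hbH : b ∈ H := by rw [hH]; exact ⟨hb, hbs⟩
    rw [← hgen] at hbH
    obtain ⟨i, rfl⟩ := hbH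
    have h1 : Subgroup.zpowers (x : MulAut M) ≤ MulAction.stabilizer (MulAut M) w := by
      rw [Subgroup.zpowers_le, MulAction.mem_stabilizer_iff]
      exact hxw
    have h2 := h1 (Subgroup.zpow_mem_zpowers (x : MulAut M) i)
    rw [MulAction.mem_stabilizer_iff] at h2
    exact h2

end LocalData

end Cfsg.Agent.Lib.Helper1.FrobPQ
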