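import Mathlib
import Cfsg.Agent.Lib.Helper1.FrobPQ.Tower
import Cfsg.Agent.Lib.Helper1.Ward.FitOf

set_option autoImplicit false
set_option linter.unusedSectionVars false

namespace Cfsg.Agent.Lib.Helper1.FrobPQ

open Cfsg.Agent.Lib.Helper1.Ward
open scoped commutatorElement

universe u

structure GoodF {Γ : Type u} [Group Γ] [Finite Γ] (p q : ℕ) (A F G : Subgroup Γ) : Prop where
  frob : FrobA p q A F
  normal : G.Normal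
  cop : (Nat.card G).Coprime (p * q)
  solv : Group.IsSolvable G
  fpf : ∀ g ∈ G, (∀ a ∈ A, a * g = g * a) → g = 1

def FTowerMainProp (p q : ℕ) : Prop :=
  ∀ (M : Type u) [CommGroup M] [Finite M] (s r ℓ : ℕ) (A F S R : Subgroup (MulAut M)),
    FTower p q s r ℓ A F S R → ⁅S, R⁆ = ⊥

def Core2Prop : Prop :=
  ∀ (M : Type u) [CommGroup M] [Finite M] (ℓ r : ℕ), ℓ.Prime → r.Prime → ℓ ≠ 2 → ℓ ≠ 3 →
    r ≠ 2 → r ≠ 3 → r ≠ ℓ → (∀ m : M, m ^ ℓ = 1) →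
    ∀ A F : Subgroup (MulAut M), PQ 3 2 A → F ≤ A → Nat.card F = 3 →
    A ≤ Subgroup.normalizer (F : Set (MulAut M)) →
    (∀ m : M, (∀ a ∈ A, a m = m) → m = 1) →
    ∀ R : Subgroup (MulAut M), IsPGroup r R → A ≤ Subgroup.normalizer (R : Set (MulAut M)) →
    (∀ y ∈ R, (∀ a ∈ A, a * y = y * a) → y = 1) → ∀ a ∈ R, ∀ b ∈ R, a * b = b * a

def FinalLemmaProp : Prop :=
  ∀ (T : Type u) [CommGroup T] [Finite T] (Rb : Subgroup (MulAut T)) (f x : MulAut T) (p q : ℕ),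
    p.Prime → q.Prime →
    (∀ c ∈ Rb, ∀ d ∈ Rb, c * d = d * c) →
    (∀ c ∈ Rb, f * c * f⁻¹ ∈ Rb) → (∀ c ∈ Rb, x * c * x⁻¹ ∈ Rb) →
    f ^ p = 1 → x ^ q = 1 →
    (∀ g ∈ Subgroup.zpowers f, x * g * x⁻¹ ∈ Subgroup.zpowers f) →
    (∀ g ∈ Subgroup.zpowers f, x * g = g * x → g = 1) →
    (Nat.card Rb).Coprime (Nat.card T) →
    (Nat.card T).Coprime q → (Nat.card Rb).Coprime q →
    (∀ t : T, (∀ c ∈ Rb, c t = t) → t = 1) →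
    (∀ t : T, f t = t → x t = t → t = 1) →
    (∀ c ∈ Rb, f * c = c * f → x * c = c * x → c = 1) →
    (∀ D : Subgroup (MulAut T), D ≤ Rb → (∀ d ∈ D, f * d * f⁻¹ ∈ D) →
      (∀ d ∈ D, x * d * x⁻¹ ∈ D) → D = ⊥ ∨ D = Rb) →
    ∀ N : Subgroup T, (∀ c ∈ Rb, ∀ n ∈ N, c n ∈ N) → (∀ t : T, x t * t⁻¹ ∈ N) → N = ⊤

def ElQuotProp : Prop :=
  ∀ (𝔾 : Type u) [Group 𝔾] [Finite 𝔾] (p q s r : ℕ) (A F S R : Subgroup 𝔾),
    FrobA p q A F → s.Prime → r.Prime → s ≠ r → s ≠ p → s ≠ q → r ≠ p → r ≠ q →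
    IsPGroup s S → IsPGroup r R →
    A ≤ Subgroup.normalizer (S : Set 𝔾) → A ≤ Subgroup.normalizer (R : Set 𝔾) →
    R ≤ Subgroup.normalizer (S : Set 𝔾) →
    (∀ y ∈ S, (∀ a ∈ A, a * y = y * a) → y = 1) →
    (∀ x ∈ R, (∀ a ∈ A, a * x = x * a) → x = 1) →
    ⁅R, R⁆ ≤ Subgroup.centralizer (S : Set 𝔾) →
    ⁅S, S⁆ ≤ S ⊓ Subgroup.centralizer (R : Set 𝔾) →
    (∀ R' : Subgroup 𝔾, R' ≤ R → A ≤ Subgroup.normalizer (R' : Set 𝔾) →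
      R' ≠ R → R' ≤ Subgroup.centralizer (S : Set 𝔾)) →
    ∀ x : 𝔾, x ∈ A → x ∉ F → ∀ N : Subgroup 𝔾, N ≤ S →
    S ≤ Subgroup.normalizer (N : Set 𝔾) → R ≤ Subgroup.normalizer (N : Set 𝔾) →
    (∀ y ∈ S, x * y * x⁻¹ * y⁻¹ ∈ N) →
    S ≤ N ⊔ (S ⊓ Subgroup.centralizer (R : Set 𝔾))

end Cfsg.Agent.Lib.Helper1.FrobPQ
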