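import Mathlib
import Cfsg.Agent.Lib.Helper1.FrobPQ.Props

set_option autoImplicit false
set_option linter.unusedSectionVars false

namespace Cfsg.Agent.Lib.Helper1.FrobPQ

open Cfsg.Agent.Lib.Helper18.Fpf4 Cfsg.Agent.Lib.Helper1.Ward
open scoped commutatorElement

universe u

section general

variable {G : Type*} [Group G] [Finite G]

theorem left_norm_commutator (H K : Subgroup G) :
    H ≤ Subgroup.normalizer ((⁅H, K⁆ : Subgroup G) : Set G) := by
  apply conj_mem_of_normalizer_le
  intro g hg u hu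
  rw [Subgroup.commutator_def] at hu ⊢
  induction hu using Subgroup.closure_induction with
  | mem u hu =>
    obtain ⟨a, ha, k, hk, rfl⟩ := hu
    have e : g * ⁅a, k⁆ * g⁻¹ = ⁅g * a, k⁆ * ⁅g, k⁆⁻¹ := by
      simp only [commutatorElement_def]; group
    rw [e]
    exact mul_mem (Subgroup.subset_closure ⟨g * a, mul_mem hg ha, k, hk, rfl⟩)
      (inv_mem (Subgroup.subset_closure ⟨g, hg, k, hk, rfl⟩))
  | one => simp
  | mul a b _ _ ha hb =>
    have e : g * (a * b) * g⁻¹ = (g * a * g⁻¹) * (g * b * g⁻¹) := by group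
    rw [e]; exact mul_mem ha hb
  | inv a _ ha =>
    have e : g * a⁻¹ * g⁻¹ = (g * a * g⁻¹)⁻¹ := by group
    rw [e]; exact inv_mem ha

theorem FrobA.q_dvd {p q : ℕ} {A F : Subgroup G} (h : FrobA p q A F) : q ∣ p - 1 := by
  obtain ⟨x, hxA, hxF⟩ := h.exists_out
  have hxq := h.pow_q_eq_one hxA hxF
  have hQn : Subgroup.zpowers x ≤ Subgroup.normalizer (F : Set G) := by
    rw [Subgroup.zpowers_le]; exact h.AF hxA
  have := Fact.mk h.hq
  have hQ : IsPGroup q ↥(Subgroup.zpowers x) := by
    apply IsPGroup.of_card (n := 1)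
    rw [pow_one, Nat.card_zpowers]
    apply orderOf_eq_prime hxq
    rintro rfl
    exact hxF (one_mem F)
  let _ : MulAction ↥(Subgroup.zpowers x) ↥F :=
    MulAction.compHom ↥F (F.normalizerMonoidHom.comp (Subgroup.inclusion hQn))
  have hsmul : ∀ (c : ↥(Subgroup.zpowers x)) (g : ↥F), ((c • g : ↥F) : G) = c * g * (c : G)⁻¹ := by
    intro c g; rfl
  have hmod := hQ.card_modEq_card_fixedPoints ↥F
  have hfix : MulAction.fixedPoints ↥(Subgroup.zpowers x) ↥F = {1} := by
    ext g
    simp only [MulAction.mem_fixedPoints, Set.mem_singleton_iff]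
    constructor
    · intro hg
      have h1 := hg ⟨x, Subgroup.mem_zpowers x⟩
      have h2 : x * (g : G) * x⁻¹ = g := by
        rw [← hsmul ⟨x, Subgroup.mem_zpowers x⟩ g, h1]
      apply Subtype.ext
      apply h.free hxA hxF g.2
      calc x * (g : G) = x * (g : G) * x⁻¹ * x := by group
        _ = g * x := by rw [h2]
    · rintro rfl c
      apply Subtype.ext
      rw [hsmul]
      simp
  rw [hfix, h.cardF] at hmod
  have hone : Nat.card ↥({1} : Set ↥F) = 1 := by
    rw [Nat.card_eq_one_iff_unique]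
    exact ⟨inferInstance, ⟨⟨1, rfl⟩⟩⟩
  rw [hone] at hmod
  exact (Nat.modEq_iff_dvd' h.hp.one_lt.le).mp hmod.symm

end general

variable {M : Type u} [CommGroup M] [Finite M]

namespace FRed

variable {p q s r ℓ : ℕ} {A F S R : Subgroup (MulAut M)}

theorem derived_S_le (h : FRed p q s r ℓ A F S R) :
    ⁅S, S⁆ ≤ Subgroup.centralizer (S : Set (MulAut M)) ⊓ Subgroup.centralizer (R : Set (MulAut M)) :=
  h.sub_le (Subgroup.commutator_le_self S)
    (normalizer_commutator Subgroup.le_normalizer Subgroup.le_normalizer)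
    (normalizer_commutator h.T.RS h.T.RS) (normalizer_commutator h.T.AS h.T.AS)
    (derived_ne_self (h.T.solvS (le_refl S)) h.hne)

theorem CR_ne (h : FRed p q s r ℓ A F S R) :
    S ⊓ Subgroup.centralizer (R : Set (MulAut M)) ≠ S := by
  intro e
  apply h.hne
  rw [← h.hSR, Subgroup.commutator_eq_bot_iff_le_centralizer]
  exact inf_eq_left.mp e

theorem CR_le_cent (h : FRed p q s r ℓ A F S R) :
    S ⊓ Subgroup.centralizer (R : Set (MulAut M)) ≤ Subgroup.centralizer (S : Set (MulAut M)) := by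
  have h1 : ⁅⁅R, S ⊓ Subgroup.centralizer (R : Set (MulAut M))⁆, S⁆ = ⊥ := by
    have e : ⁅R, S ⊓ Subgroup.centralizer (R : Set (MulAut M))⁆ = ⊥ := by
      rw [Subgroup.commutator_comm]
      exact Subgroup.commutator_eq_bot_iff_le_centralizer.mpr inf_le_right
    rw [e, Subgroup.commutator_bot_left]
  have h2 : ⁅⁅S ⊓ Subgroup.centralizer (R : Set (MulAut M)), S⁆, R⁆ = ⊥ := by
    rw [Subgroup.commutator_eq_bot_iff_le_centralizer]
    exact (Subgroup.commutator_mono inf_le_left (le_refl S)).trans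
      (h.derived_S_le.trans inf_le_right)
  have h3 := Subgroup.commutator_commutator_eq_bot_of_rotate h1 h2
  rw [h.hSR] at h3
  exact le_centralizer_of_comm_bot h3

theorem norm_CR (h : FRed p q s r ℓ A F S R) {E : Subgroup (MulAut M)}
    (hS : E ≤ Subgroup.normalizer (S : Set (MulAut M)))
    (hR : E ≤ Subgroup.normalizer (R : Set (MulAut M))) :
    E ≤ Subgroup.normalizer
      ((S ⊓ Subgroup.centralizer (R : Set (MulAut M)) : Subgroup (MulAut M)) : Set (MulAut M)) :=
  normalizer_inf hS (normalizer_centralizer hR)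

theorem ending (hel : ElQuotProp.{u}) (h : FRed p q s r ℓ A F S R) {x : MulAut M} (hxA : x ∈ A)
    (hx1 : x ≠ 1) (N : Subgroup (MulAut M)) (hNS : N ≤ S)
    (hSN : S ≤ Subgroup.normalizer (N : Set (MulAut M)))
    (hRN : R ≤ Subgroup.normalizer (N : Set (MulAut M)))
    (hxN : ∀ y ∈ S, x * y * x⁻¹ * y⁻¹ ∈ N)
    (hne : N ⊔ (S ⊓ Subgroup.centralizer (R : Set (MulAut M))) ≠ S) : False := by
  have hle : N ⊔ (S ⊓ Subgroup.centralizer (R : Set (MulAut M))) ≤ S := sup_le hNS inf_le_left
  by_cases hxF : x ∈ F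
  · have hFz := h.T.frob.F_eq_zpowers hxF hx1
    have hxU : x ∈ stabMod S N := by
      refine ⟨h.T.AS hxA, fun y hy => ?_⟩
      have h1 := nmem' (hSN hy) (hxN y hy)
      have e : y⁻¹ * (x * y * x⁻¹) = y⁻¹ * (x * y * x⁻¹ * y⁻¹) * y := by group
      rw [e]; exact h1
    have hFU : F ≤ stabMod S N := by
      rw [← hFz, Subgroup.zpowers_le]; exact hxU
    rcases h.dichotomy with hI | ⟨hII, -⟩
    · have hRF : R ≤ Subgroup.normalizer (F : Set (MulAut M)) :=
        hI.trans (Subgroup.centralizer_le_normalizer _)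
      have hN1S : ⁅S, F⁆ ≤ S :=
        Subgroup.le_normalizer_iff_commutator_le_left.mp (h.T.frob.FA.trans h.T.AS)
      have hSFN : ⁅S, F⁆ ≤ N := commutator_le_of_le_stabMod hFU
      by_cases hSF : ⁅S, F⁆ = S
      · apply hne
        apply le_antisymm hle
        calc S = ⁅S, F⁆ := hSF.symm
          _ ≤ N := hSFN
          _ ≤ _ := le_sup_left
      · have h1 := h.sub_le hN1S (left_norm_commutator S F) (normalizer_commutator h.T.RS hRF)
          (normalizer_commutator h.T.AS h.T.frob.AF) hSF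
        have h26 := Cfsg.Agent.S0026.result F S (h.T.frob.FA.trans h.T.AS)
          (h.T.copAS h.T.frob.FA (le_refl S)) (Or.inr (h.T.solvS (le_refl S)))
        have h2 : S ⊓ Subgroup.centralizer (F : Set (MulAut M)) ≤
            Subgroup.centralizer (R : Set (MulAut M)) := by
          intro y hy
          rw [Subgroup.mem_centralizer_iff]
          intro c hc
          have := h.T.nilSR y hy.1 (fun f hf => Subgroup.mem_centralizer_iff.mp hy.2 f hf) c hc
            (fun f hf => Subgroup.mem_centralizer_iff.mp (hI hc) f hf)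
          exact this.symm
        have h3 : S ≤ Subgroup.centralizer (R : Set (MulAut M)) := by
          calc S = ⁅S, F⁆ ⊔ (S ⊓ Subgroup.centralizer (F : Set (MulAut M))) := h26.symm
            _ ≤ _ := sup_le (h1.trans inf_le_right) h2
        exact h.CR_ne (inf_eq_left.mpr h3)
    · have hRU : R ≤ Subgroup.normalizer ((stabMod S N : Subgroup (MulAut M)) : Set (MulAut M)) :=
        normalizer_stabMod h.T.RS hRN
      have h1 : ⁅R, F⁆ ≤ stabMod S N := by
        have h2 : ⁅stabMod S N, R⁆ ≤ stabMod S N :=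
          Subgroup.le_normalizer_iff_commutator_le_left.mp hRU
        rw [Subgroup.commutator_comm]
        exact (Subgroup.commutator_mono hFU (le_refl R)).trans h2
      rw [hII] at h1
      have h2 : ⁅S, R⁆ ≤ N := commutator_le_of_le_stabMod h1
      rw [h.hSR] at h2
      exact hne (le_antisymm hle (h2.trans le_sup_left))
  · have h1 := hel (MulAut M) p q s r A F S R h.T.frob h.T.hs h.T.hr h.T.hsr h.T.hsp h.T.hsq
      h.T.hrp h.T.hrq h.T.Sgroup h.T.Rgroup h.T.AS h.T.AR h.T.RS h.T.fpfS h.T.fpfR h.derived_R_le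
      (le_inf (Subgroup.commutator_le_self S) (h.derived_S_le.trans inf_le_right))
      (fun R' hR' hA' hne' => h.subR_le hR' hA' hne') x hxA hxF N hNS hSN hRN hxN
    exact hne (le_antisymm hle h1)

end FRed

end Cfsg.Agent.Lib.Helper1.FrobPQ
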