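import Mathlib
import Cfsg.Agent.Lib.Helper1.FrobPQ.StepA
import Cfsg.Agent.Lib.Helper1.FrobPQ.HH
import Cfsg.Agent.Lib.Helper20.FrobHyp

set_option autoImplicit false
set_option linter.unusedSectionVars false

namespace Cfsg.Agent.Lib.Helper1.FrobPQ

open Cfsg.Agent.Lib.Helper18.Fpf4 Cfsg.Agent.Lib.Helper1.Ward
open scoped commutatorElement

universe u

section omega

variable {G : Type*} [Group G] [Finite G]

def omegaSub (D : Subgroup G) (hab : ∀ a ∈ D, ∀ b ∈ D, a * b = b * a) (s : ℕ) : Subgroup G where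
  carrier := {z | z ∈ D ∧ z ^ s = 1}
  one_mem' := ⟨one_mem _, one_pow _⟩
  mul_mem' := by
    rintro a b ⟨ha, ha1⟩ ⟨hb, hb1⟩
    refine ⟨mul_mem ha hb, ?_⟩
    rw [(show Commute a b from hab a ha b hb).mul_pow, ha1, hb1, one_mul]
  inv_mem' := by
    rintro a ⟨ha, ha1⟩
    exact ⟨inv_mem ha, by rw [inv_pow, ha1, inv_one]⟩

theorem mem_omegaSub {D : Subgroup G} {hab : ∀ a ∈ D, ∀ b ∈ D, a * b = b * a} {s : ℕ} {z : G} :
    z ∈ omegaSub D hab s ↔ z ∈ D ∧ z ^ s = 1 := Iff.rfl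

theorem omegaSub_le (D : Subgroup G) (hab : ∀ a ∈ D, ∀ b ∈ D, a * b = b * a) (s : ℕ) :
    omegaSub D hab s ≤ D := fun _ hz => hz.1

theorem omegaSub_ne_bot {D : Subgroup G} (hab : ∀ a ∈ D, ∀ b ∈ D, a * b = b * a) {s : ℕ}
    (hs : s.Prime) (hD : IsPGroup s D) (hne : D ≠ ⊥) : omegaSub D hab s ≠ ⊥ := by
  have := Fact.mk hs
  obtain ⟨n, hn⟩ := (IsPGroup.iff_card).mp hD
  have hn0 : n ≠ 0 := by
    rintro rfl
    rw [pow_zero] at hn
    exact hne (Subgroup.card_eq_one.mp hn)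
  have hdvd : s ∣ Nat.card D := by
    rw [hn]; exact dvd_pow_self s hn0
  obtain ⟨d, hd⟩ := exists_prime_orderOf_dvd_card' s hdvd
  intro hbot
  have h1 : (d : G) ∈ omegaSub D hab s := by
    refine ⟨d.2, ?_⟩
    have h2 : d ^ s = 1 := by rw [← hd]; exact pow_orderOf_eq_one d
    exact congrArg Subtype.val h2
  rw [hbot, Subgroup.mem_bot] at h1
  have h3 : d = 1 := Subtype.ext h1
  rw [h3, orderOf_one] at hd
  exact hs.one_lt.ne hd

theorem omegaSub_norm {D : Subgroup G} (hab : ∀ a ∈ D, ∀ b ∈ D, a * b = b * a) (s : ℕ)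
    {E : Subgroup G} (hE : E ≤ Subgroup.normalizer (D : Set G)) :
    E ≤ Subgroup.normalizer ((omegaSub D hab s : Subgroup G) : Set G) := by
  apply conj_mem_of_normalizer_le
  intro g hg z hz
  refine ⟨nmem (hE hg) hz.1, ?_⟩
  rw [conj_pow, hz.2]
  group

end omega

variable {M : Type u} [CommGroup M] [Finite M]

def fixW (W : Subgroup M) : Subgroup (MulAut M) where
  carrier := {g | ∀ w ∈ W, g w = w}
  one_mem' := fun _ _ => rfl
  mul_mem' := by
    intro a b ha hb w hw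
    rw [MulAut.mul_apply, hb w hw, ha w hw]
  inv_mem' := by
    intro a ha w hw
    rw [MulAut.inv_apply, MulEquiv.symm_apply_eq, ha w hw]

theorem mem_fixW {W : Subgroup M} {g : MulAut M} : g ∈ fixW W ↔ ∀ w ∈ W, g w = w := Iff.rfl

theorem stabS_le_norm_fixW (W : Subgroup M) :
    stabS W ≤ Subgroup.normalizer ((fixW W : Subgroup (MulAut M)) : Set (MulAut M)) := by
  apply conj_mem_of_normalizer_le
  intro g hg t ht w hw
  have h1 : g⁻¹ w ∈ W := apply_mem_of_mem_stabS (inv_mem hg) hw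
  simp only [MulAut.mul_apply]
  rw [ht _ h1]
  simp

namespace FRed

variable {p q s r ℓ : ℕ} {A F S R : Subgroup (MulAut M)}

theorem nonab (hel : ElQuotProp.{u}) (h : FRed p q s r ℓ A F S R)
    (hnab : ¬ ∀ a ∈ S, ∀ b ∈ S, a * b = b * a) : False := by
  have hDle := h.derived_S_le
  have hDS : ⁅S, S⁆ ≤ S := Subgroup.commutator_le_self S
  have hDne : ⁅S, S⁆ ≠ ⊥ := by
    intro e
    apply hnab
    intro a ha b hb
    have h1 := Subgroup.commutator_eq_bot_iff_le_centralizer.mp e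
    exact Subgroup.mem_centralizer_iff.mp (h1 hb) a ha
  have hDab : ∀ a ∈ ⁅S, S⁆, ∀ b ∈ ⁅S, S⁆, a * b = b * a :=
    fun a ha b hb => Subgroup.mem_centralizer_iff.mp (hDle hb).1 a (hDS ha)
  obtain ⟨Z, hZ⟩ : ∃ Z : Subgroup (MulAut M), Z = omegaSub ⁅S, S⁆ hDab s := ⟨_, rfl⟩
  have hZD : Z ≤ ⁅S, S⁆ := by rw [hZ]; exact omegaSub_le _ _ _
  have hZne : Z ≠ ⊥ := by
    rw [hZ]; exact omegaSub_ne_bot hDab h.T.hs (h.T.Sgroup.to_le hDS) hDne
  have hZab : ∀ a ∈ Z, ∀ b ∈ Z, a * b = b * a := fun a ha b hb => hDab a (hZD ha) b (hZD hb)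
  have hZs : ∀ z ∈ Z, z ^ s = 1 := by
    intro z hz
    rw [hZ] at hz
    exact hz.2
  have hAZ : A ≤ Subgroup.normalizer (Z : Set (MulAut M)) := by
    rw [hZ]; exact omegaSub_norm hDab s (normalizer_commutator h.T.AS h.T.AS)
  obtain ⟨Z₁, hZ₁Z, hZ₁ne, hZ₁max, hcompne⟩ :=
    Cfsg.Agent.Lib.Helper20.FrobHyp.exists_hyperplane Z h.T.hs hZab hZs h.T.copMs hZne
  have L : LocalData s A Z Z₁ := ⟨h.T.hs, hZab, hZs, hAZ, hZ₁Z, hZ₁ne, hZ₁max, hcompne, h.T.copMs,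
    h.T.copMA, h.T.copAs, h.T.fpfM, fun z hz hfix => h.T.fpfS z (hDS (hZD hz)) hfix⟩
  obtain ⟨x, hxA, hx1, hxstab, hxfpf⟩ := L.local_main h.T.frob.toPQ
  have hSC : S ≤ Subgroup.centralizer (Z : Set (MulAut M)) := by
    intro y hy
    rw [Subgroup.mem_centralizer_iff]
    intro z hz
    exact (Subgroup.mem_centralizer_iff.mp (hDle (hZD hz)).1 y hy).symm
  have hRC : R ≤ Subgroup.centralizer (Z : Set (MulAut M)) := by
    intro y hy
    rw [Subgroup.mem_centralizer_iff]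
    intro z hz
    exact (Subgroup.mem_centralizer_iff.mp (hDle (hZD hz)).2 y hy).symm
  have hCZ : Subgroup.centralizer (Z : Set (MulAut M)) ≤ stabS (comp Z Z₁) := by
    intro g hg
    apply mem_stabS_of_forall
    intro w hw
    apply L.comp_B_inv (Subgroup.centralizer_le_normalizer _ hg) _ hw
    exact Subgroup.centralizer_le_normalizer _ (Subgroup.centralizer_le hZ₁Z hg)
  have hxW : x ∈ stabS (comp Z Z₁) := by
    apply mem_stabS_of_forall
    intro w hw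
    exact L.comp_B_inv hxstab.1 (L.stab_le_norm hxstab) hw
  have hkey : ∀ y ∈ S, ∀ w ∈ comp Z Z₁, (x * y * x⁻¹ * y⁻¹) w = w := by
    by_cases hxF : x ∈ F
    · apply hh_step h.T.hℓ h.T.hs h.T.frob.hp (Ne.symm h.T.hsℓ) h.T.hℓp h.T.hsp h.T.expM
        (comp Z Z₁) S h.T.Sgroup x (h.T.frob.pow_p_eq_one hxF) (h.T.AS hxA) hxW (hSC.trans hCZ) hxfpf
      intro hs2 hn
      exfalso
      obtain ⟨n, hn⟩ := hn
      have hdvd := h.T.frob.q_dvd
      rw [hn, Nat.add_sub_cancel] at hdvd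
      have hq2 : q = 2 :=
        (Nat.prime_dvd_prime_iff_eq h.T.frob.hq Nat.prime_two).mp (h.T.frob.hq.dvd_of_dvd_pow hdvd)
      exact h.T.hsq (hs2.trans hq2.symm)
    · apply hh_step h.T.hℓ h.T.hs h.T.frob.hq (Ne.symm h.T.hsℓ) h.T.hℓq h.T.hsq h.T.expM
        (comp Z Z₁) S h.T.Sgroup x (h.T.frob.pow_q_eq_one hxA hxF) (h.T.AS hxA) hxW (hSC.trans hCZ)
        hxfpf
      intro hs2 hn
      exfalso
      obtain ⟨n, hn⟩ := hn
      exact h.T.hexc hs2 n hn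
  have hSN : S ≤ Subgroup.normalizer
      ((S ⊓ fixW (comp Z Z₁) : Subgroup (MulAut M)) : Set (MulAut M)) :=
    normalizer_inf Subgroup.le_normalizer ((hSC.trans hCZ).trans (stabS_le_norm_fixW _))
  have hRN : R ≤ Subgroup.normalizer
      ((S ⊓ fixW (comp Z Z₁) : Subgroup (MulAut M)) : Set (MulAut M)) :=
    normalizer_inf h.T.RS ((hRC.trans hCZ).trans (stabS_le_norm_fixW _))
  have hxN : ∀ y ∈ S, x * y * x⁻¹ * y⁻¹ ∈ S ⊓ fixW (comp Z Z₁) := by
    intro y hy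
    exact Subgroup.mem_inf.mpr ⟨mul_mem (nmem (h.T.AS hxA) hy) (inv_mem hy), hkey y hy⟩
  apply h.ending hel hxA hx1 (S ⊓ fixW (comp Z Z₁)) inf_le_left hSN hRN hxN
  intro hsup
  have hle : S ≤ stabMod S (S ⊓ fixW (comp Z Z₁)) := by
    conv_lhs => rw [← hsup]
    apply sup_le
    · intro n hn
      refine ⟨Subgroup.le_normalizer hn.1, fun y hy => ?_⟩
      have e : y⁻¹ * (n * y * n⁻¹) = (y⁻¹ * n * y) * n⁻¹ := by group
      rw [e]
      exact mul_mem (nmem' (hSN hy) hn) (inv_mem hn)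
    · intro c hc
      refine ⟨Subgroup.le_normalizer hc.1, fun y hy => ?_⟩
      have hcy := Subgroup.mem_centralizer_iff.mp (h.CR_le_cent hc) y hy
      have e : y⁻¹ * (c * y * c⁻¹) = 1 := by rw [← hcy]; group
      rw [e]; exact one_mem _
  have hDN : ⁅S, S⁆ ≤ S ⊓ fixW (comp Z Z₁) := commutator_le_of_le_stabMod hle
  obtain ⟨z₀, hz₀, hz₀1⟩ := L.exists_out
  obtain ⟨w, hw1⟩ := (Subgroup.ne_bot_iff_exists_ne_one).mp hcompne
  apply hw1
  apply Subtype.ext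
  exact L.fpf_out hz₀ hz₀1 w.2 ((hDN (hZD hz₀)).2 w w.2)

end FRed

end Cfsg.Agent.Lib.Helper1.FrobPQ
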