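import Mathlib
import Cfsg.Agent.Lib.Helper1.FrobPQ.NonAb
import Cfsg.Agent.Lib.Helper20.FrobSZ

set_option autoImplicit false
set_option linter.unusedSectionVars false

namespace Cfsg.Agent.Lib.Helper1.FrobPQ

open Cfsg.Agent.Lib.Helper18.Fpf4 Cfsg.Agent.Lib.Helper1.Ward
open scoped commutatorElement

universe u

section general

variable {G : Type*} [Group G]

theorem conjHom_apply (c z : G) : (MulAut.conj c).toMonoidHom z = c * z * c⁻¹ := rfl

theorem map_conj_of_mem_normalizer {S : Subgroup G} {c : G}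
    (hc : c ∈ Subgroup.normalizer (S : Set G)) : S.map (MulAut.conj c).toMonoidHom = S :=
  Subgroup.mem_normalizer_iff_map_conj_eq.mp hc

theorem stabMod_map_conj {S K : Subgroup G} {g c : G}
    (hc : c ∈ Subgroup.normalizer (S : Set G)) (hg : g ∈ stabMod S K) :
    c * g * c⁻¹ ∈ stabMod S (K.map (MulAut.conj c).toMonoidHom) := by
  refine ⟨mul_mem (mul_mem hc hg.1) (inv_mem hc), fun y hy => ?_⟩
  have hy' : c⁻¹ * y * c ∈ S := nmem' hc hy
  refine ⟨(c⁻¹ * y * c)⁻¹ * (g * (c⁻¹ * y * c) * g⁻¹), hg.2 _ hy', ?_⟩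
  rw [conjHom_apply]
  group

theorem map_conj_inv_map_conj (K : Subgroup G) (c : G) :
    (K.map (MulAut.conj c).toMonoidHom).map (MulAut.conj c⁻¹).toMonoidHom = K := by
  ext z
  constructor
  · rintro ⟨_, ⟨k, hk, rfl⟩, rfl⟩
    rw [conjHom_apply, conjHom_apply]
    have e : c⁻¹ * (c * k * c⁻¹) * c⁻¹⁻¹ = k := by group
    rw [e]; exact hk
  · intro hz
    refine ⟨c * z * c⁻¹, ⟨z, hz, rfl⟩, ?_⟩
    rw [conjHom_apply]
    group

end general

variable {M : Type u} [CommGroup M] [Finite M]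

theorem LocalData.conj {s : ℕ} {A Z Z₁ : Subgroup (MulAut M)} (L : LocalData s A Z Z₁)
    {c : MulAut M} (hc : c ∈ Subgroup.normalizer (Z : Set (MulAut M))) :
    LocalData s A Z (Z₁.map (MulAut.conj c).toMonoidHom) where
  hs := L.hs
  Zab := L.Zab
  Zs := L.Zs
  AZ := L.AZ
  Z₁Z := by
    rintro _ ⟨z, hz, rfl⟩
    exact nmem hc (L.Z₁Z hz)
  Z₁ne := by
    intro e
    apply L.Z₁ne
    rw [← map_conj_inv_map_conj Z₁ c, e]
    exact map_conj_of_mem_normalizer (inv_mem hc)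
  Z₁max := by
    intro z hz hz1
    have hz' : c⁻¹ * z * c ∈ Z := nmem' hc hz
    have hz1' : c⁻¹ * z * c ∉ Z₁ := by
      intro hmem
      apply hz1
      refine ⟨c⁻¹ * z * c, hmem, ?_⟩
      rw [conjHom_apply]; group
    have h1 := L.Z₁max _ hz' hz1'
    have h2 := congrArg (Subgroup.map (MulAut.conj c).toMonoidHom) h1
    rw [Subgroup.map_sup, MonoidHom.map_zpowers, map_conj_of_mem_normalizer hc, conjHom_apply] at h2
    have e : c * (c⁻¹ * z * c) * c⁻¹ = z := by group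
    rw [e] at h2
    exact h2
  compne := by
    obtain ⟨w, hw1⟩ := (Subgroup.ne_bot_iff_exists_ne_one).mp L.compne
    intro e
    have hw := mem_comp.mp w.2
    have h1 : c (w : M) ∈ comp Z (Z₁.map (MulAut.conj c).toMonoidHom) := by
      rw [mem_comp]
      refine ⟨?_, ?_⟩
      · rintro _ ⟨z, hz, rfl⟩
        rw [conjHom_apply]
        simp only [MulAut.mul_apply, MulAut.inv_apply_self]
        rw [hw.1 z hz]
      · have h2 := trP_map_conj Z c (w : M)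
        rw [map_conj_of_mem_normalizer hc] at h2
        rw [h2, hw.2, map_one]
    rw [e, Subgroup.mem_bot] at h1
    apply hw1
    apply Subtype.ext
    have h3 : c (w : M) = c 1 := by rw [h1, map_one]
    exact c.injective h3
  copMs := L.copMs
  copMA := L.copMA
  copAs := L.copAs
  fpfM := L.fpfM
  fpfZ := L.fpfZ

def projSub (A R U : Subgroup (MulAut M))
    (hAR : A ≤ Subgroup.normalizer (R : Set (MulAut M))) : Subgroup (MulAut M) where
  carrier := {a | a ∈ A ∧ ∃ c ∈ R, c * a ∈ U}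
  one_mem' := ⟨one_mem _, 1, one_mem _, by rw [one_mul]; exact one_mem _⟩
  mul_mem' := by
    rintro a₁ a₂ ⟨ha₁, c₁, hc₁, h₁⟩ ⟨ha₂, c₂, hc₂, h₂⟩
    refine ⟨mul_mem ha₁ ha₂, c₁ * (a₁ * c₂ * a₁⁻¹), mul_mem hc₁ (nmem (hAR ha₁) hc₂), ?_⟩
    have e : c₁ * (a₁ * c₂ * a₁⁻¹) * (a₁ * a₂) = (c₁ * a₁) * (c₂ * a₂) := by group
    rw [e]; exact mul_mem h₁ h₂
  inv_mem' := by
    rintro a ⟨ha, c, hc, h⟩
    refine ⟨inv_mem ha, a⁻¹ * c⁻¹ * a, nmem' (hAR ha) (inv_mem hc), ?_⟩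
    have e : a⁻¹ * c⁻¹ * a * a⁻¹ = (c * a)⁻¹ := by group
    rw [e]; exact inv_mem h

namespace FRed

variable {p q s r ℓ : ℕ} {A F S R : Subgroup (MulAut M)}

theorem abel (hel : ElQuotProp.{u}) (h : FRed p q s r ℓ A F S R)
    (hab : ∀ a ∈ S, ∀ b ∈ S, a * b = b * a) : False := by
  have hcomm : IsMulCommutative ↥S := ⟨⟨fun a b => Subtype.ext (hab a.1 a.2 b.1 b.2)⟩⟩
  have hCR : S ⊓ Subgroup.centralizer (R : Set (MulAut M)) = ⊥ := by
    have h55 := (Cfsg.Agent.S0055.result R S h.T.RS (h.T.copRS (le_refl R) (le_refl S))).1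
    rw [h.hSR] at h55
    rw [← h55]
    exact (inf_eq_left.mpr inf_le_left).symm
  have hSn : ∀ S' : Subgroup (MulAut M), S' ≤ S →
      S ≤ Subgroup.normalizer (S' : Set (MulAut M)) := by
    intro S' hS'
    apply conj_mem_of_normalizer_le
    intro g hg u hu
    have e : g * u * g⁻¹ = u := by rw [hab g hg u (hS' hu)]; group
    rw [e]; exact hu
  have hexp : ∀ y ∈ S, y ^ s = 1 := by
    by_contra hcon
    have hΩne : omegaSub S hab s ≠ S := by
      intro e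
      apply hcon
      intro y hy
      rw [← e] at hy
      exact hy.2
    have h1 := h.sub_le (omegaSub_le S hab s) (hSn _ (omegaSub_le S hab s))
      (omegaSub_norm hab s h.T.RS) (omegaSub_norm hab s h.T.AS) hΩne
    have h2 : omegaSub S hab s ≤ S ⊓ Subgroup.centralizer (R : Set (MulAut M)) :=
      le_inf (omegaSub_le S hab s) (h1.trans inf_le_right)
    rw [hCR] at h2
    exact omegaSub_ne_bot hab h.T.hs h.T.Sgroup h.hne (le_bot_iff.mp h2)
  obtain ⟨K, hKS, hKne, hKmax, hcompne⟩ :=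
    Cfsg.Agent.Lib.Helper20.FrobHyp.exists_hyperplane S h.T.hs hab hexp h.T.copMs h.hne
  have L : LocalData s A S K := ⟨h.T.hs, hab, hexp, h.T.AS, hKS, hKne, hKmax, hcompne, h.T.copMs,
    h.T.copMA, h.T.copAs, h.T.fpfM, h.T.fpfS⟩
  have Lc : ∀ c ∈ R, LocalData s A S (K.map (MulAut.conj c).toMonoidHom) :=
    fun c hc => L.conj (h.T.RS hc)
  have hxc : ∀ c ∈ R, ∃ x ∈ A, x ≠ 1 ∧ x ∈ stabMod S (K.map (MulAut.conj c).toMonoidHom) := by
    intro c hc
    obtain ⟨x, hxA, hx1, hxs, -⟩ := (Lc c hc).local_main h.T.frob.toPQ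
    exact ⟨x, hxA, hx1, hxs⟩
  obtain ⟨B₁, hB₁⟩ : ∃ B₁ : Subgroup (MulAut M), B₁ = projSub A R (stabMod S K) h.T.AR := ⟨_, rfl⟩
  have hB₁A : B₁ ≤ A := by
    rw [hB₁]; exact fun a ha => ha.1
  have hmemB : ∀ c ∈ R, ∀ x ∈ A, x ∈ stabMod S (K.map (MulAut.conj c).toMonoidHom) → x ∈ B₁ := by
    intro c hc x hxA hxs
    rw [hB₁]
    refine ⟨hxA, c⁻¹ * (x * c * x⁻¹), mul_mem (inv_mem hc) (nmem (h.T.AR hxA) hc), ?_⟩
    have h1 := stabMod_map_conj (inv_mem (h.T.RS hc)) hxs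
    rw [map_conj_inv_map_conj] at h1
    have e : c⁻¹ * (x * c * x⁻¹) * x = c⁻¹ * x * c⁻¹⁻¹ := by group
    rw [e]; exact h1
  have hB₁ne : B₁ ≠ A := by
    intro e
    have hU : ∀ a ∈ A, ∃ c ∈ R, c * a ∈ stabMod S K := by
      intro a ha
      have : a ∈ B₁ := by rw [e]; exact ha
      rw [hB₁] at this
      exact this.2
    obtain ⟨c, hc, hcA⟩ := Cfsg.Agent.Lib.Helper20.FrobSZ.sz_conj R A (stabMod S K) h.T.AR
      (h.T.copAR (le_refl A) (le_refl R)) (Or.inl (h.T.solvR (le_refl R))) hU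
    apply (Lc c⁻¹ (inv_mem hc)).not_le_stab
    intro a ha
    have h1 := stabMod_map_conj (inv_mem (h.T.RS hc)) (hcA a ha)
    have e : c⁻¹ * (c * a * c⁻¹) * c⁻¹⁻¹ = a := by group
    rw [e] at h1
    exact h1
  obtain ⟨x, hxA, hx1, hxs⟩ := hxc 1 (one_mem R)
  have hxB : x ∈ B₁ := hmemB 1 (one_mem R) x hxA hxs
  have hB₁bot : B₁ ≠ ⊥ := by
    intro e
    rw [e, Subgroup.mem_bot] at hxB
    exact hx1 hxB
  have hprime := h.T.frob.toPQ.prime_card_of_ne hB₁A hB₁bot hB₁ne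
  have hxall : ∀ c ∈ R, x ∈ stabMod S (K.map (MulAut.conj c).toMonoidHom) := by
    intro c hc
    obtain ⟨x', hx'A, hx'1, hx's⟩ := hxc c hc
    have h1 := PQ.zpowers_eq_of_prime_card hprime (hmemB c hc x' hx'A hx's) hx'1
    have h2 : x ∈ Subgroup.zpowers x' := by rw [h1]; exact hxB
    exact (Subgroup.zpowers_le.mpr hx's) h2
  obtain ⟨N, hN⟩ : ∃ N : Subgroup (MulAut M),
      N = ⨅ c : ↥R, K.map (MulAut.conj (c : MulAut M)).toMonoidHom := ⟨_, rfl⟩
  have hmemN : ∀ y, y ∈ N ↔ ∀ c ∈ R, y ∈ K.map (MulAut.conj c).toMonoidHom := by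
    intro y
    rw [hN, Subgroup.mem_iInf]
    exact ⟨fun hy c hc => hy ⟨c, hc⟩, fun hy c => hy c.1 c.2⟩
  have hNK : N ≤ K := by
    intro y hy
    have h1 := (hmemN y).mp hy 1 (one_mem R)
    obtain ⟨k, hk, rfl⟩ := h1
    rw [conjHom_apply]
    simpa using hk
  have hNS : N ≤ S := hNK.trans hKS
  have hRN : R ≤ Subgroup.normalizer (N : Set (MulAut M)) := by
    apply conj_mem_of_normalizer_le
    intro g hg y hy
    rw [hmemN] at hy ⊢
    intro c hc
    obtain ⟨k, hk, hk2⟩ := hy (g⁻¹ * c) (mul_mem (inv_mem hg) hc)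
    refine ⟨k, hk, ?_⟩
    rw [conjHom_apply] at hk2 ⊢
    rw [← hk2]
    group
  have hxN : ∀ y ∈ S, x * y * x⁻¹ * y⁻¹ ∈ N := by
    intro y hy
    rw [hmemN]
    intro c hc
    have h1 := (hxall c hc).2 y hy
    have e : x * y * x⁻¹ * y⁻¹ = y⁻¹ * (x * y * x⁻¹) :=
      hab _ (nmem (h.T.AS hxA) hy) _ (inv_mem hy)
    rw [e]; exact h1
  apply h.ending hel hxA hx1 N hNS (hSn N hNS) hRN hxN
  intro hsup
  rw [hCR, sup_bot_eq] at hsup
  apply hKne
  apply le_antisymm hKS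
  rw [← hsup]
  exact hNK

end FRed

end Cfsg.Agent.Lib.Helper1.FrobPQ
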