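import Mathlib
import Cfsg.Agent.Lib.Helper1.FrobPQ.Abel

set_option autoImplicit false
set_option linter.unusedSectionVars false

namespace Cfsg.Agent.Lib.Helper1.FrobPQ

open Cfsg.Agent.Lib.Helper18.Fpf4 Cfsg.Agent.Lib.Helper1.Ward
open scoped commutatorElement

universe u

variable {M : Type u} [CommGroup M] [Finite M]

theorem card_lt_of_ssub {G : Type*} [Group G] [Finite G] {H K : Subgroup G} (h : H < K) :
    Nat.card H < Nat.card K :=
  lt_of_le_of_ne (Subgroup.card_le_of_le h.le)
    (fun heq => h.ne (Subgroup.eq_of_le_of_card_ge h.le heq.ge))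

theorem ftower_main (hel : ElQuotProp.{u}) {p q s r ℓ : ℕ} {A F : Subgroup (MulAut M)} :
    ∀ n : ℕ, ∀ S R : Subgroup (MulAut M), Nat.card S + Nat.card R = n →
      FTower p q s r ℓ A F S R → ⁅S, R⁆ = ⊥ := by
  intro n
  induction n using Nat.strong_induction_on with
  | _ n ih =>
    intro S R hn T
    have subS : ∀ S' : Subgroup (MulAut M), S' ≤ S →
        A ≤ Subgroup.normalizer (S' : Set (MulAut M)) →
        R ≤ Subgroup.normalizer (S' : Set (MulAut M)) → S' ≠ S → ⁅S', R⁆ = ⊥ := by
      intro S' hS' hA hR hne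
      have hlt : Nat.card S' < Nat.card S := card_lt_of_ssub (lt_of_le_of_ne hS' hne)
      exact ih (Nat.card S' + Nat.card R) (by omega) S' R rfl (T.subS hS' hA hR)
    have subR : ∀ R' : Subgroup (MulAut M), R' ≤ R →
        A ≤ Subgroup.normalizer (R' : Set (MulAut M)) → R' ≠ R → ⁅S, R'⁆ = ⊥ := by
      intro R' hR' hA hne
      have hlt : Nat.card R' < Nat.card R := card_lt_of_ssub (lt_of_le_of_ne hR' hne)
      exact ih (Nat.card S + Nat.card R') (by omega) S R' rfl (T.subR hR' hA)
    by_cases hSR : ⁅S, R⁆ = S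
    swap
    · have h1 := subS ⁅S, R⁆ (Subgroup.le_normalizer_iff_commutator_le_left.mp T.RS)
        (normalizer_commutator T.AS T.AR) (normalizer_commutator T.RS Subgroup.le_normalizer) hSR
      have h27 := Cfsg.Agent.S0027.result R S T.RS (T.copRS (le_refl R) (le_refl S))
        (Or.inl (T.solvR (le_refl R)))
      rw [h27] at h1
      exact h1
    by_cases hne : S = ⊥
    · rw [hne, Subgroup.commutator_bot_left]
    have hred : FRed p q s r ℓ A F S R := ⟨T, hSR, hne, subS, subR⟩
    by_cases hab : ∀ a ∈ S, ∀ b ∈ S, a * b = b * a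
    · exact (hred.abel hel hab).elim
    · exact (hred.nonab hel hab).elim

theorem ftowerMainProp_of_el (hel : ElQuotProp.{u}) (p q : ℕ) : FTowerMainProp.{u} p q :=
  fun _ _ _ _ _ _ _ _ S R T => ftower_main hel _ S R rfl T

end Cfsg.Agent.Lib.Helper1.FrobPQ
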