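import Mathlib
import Cfsg.Agent.Lib.Helper1.FrobPQ.Main
import Cfsg.Agent.Lib.Helper11.FrobTower
import Cfsg.Agent.Lib.Helper13.FrobFinalD
import Cfsg.Agent.Lib.Helper20.FrobCore2
import Cfsg.Agent.Lib.Helper28.S3D

set_option autoImplicit false
set_option linter.unusedSectionVars false

namespace Cfsg.Agent.Lib.Helper1.FrobPQ

open Cfsg.Agent.Lib.Helper1.Ward Cfsg.Agent.Lib.Helper11.FrobTower
open scoped commutatorElement

universe u

theorem finalLemmaProp : FinalLemmaProp.{u} :=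
  fun _ _ _ Rb f x _ _ hp hq hRab hfR hxR hfp hxq hxf hfree hcopRT hcopqT hcopqR hfixR hfixA hfixRA
    hirr N hNR hNx =>
  Cfsg.Agent.Lib.Helper13.FrobFinal.final_lemma Rb f x hp hq hRab hfR hxR hfp hxq hxf hfree hcopRT
    hcopqT hcopqR hfixR hfixA hfixRA hirr N hNR hNx

theorem core2Prop : Core2Prop.{u} :=
  fun _ _ _ _ _ hℓ hr hℓ2 hℓ3 hr2 hr3 hrℓ hexpM A F hA hFA hF hAF hfpfM R hR hAR hfpfR =>
  Cfsg.Agent.Lib.Helper20.FrobCore2.core2 hℓ hr hℓ2 hℓ3 hr2 hr3 hrℓ hexpM A F hA hFA hF hAF hfpfM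
    (fun R f x hfR hxR hf hx hxf hcop hnil hfix =>
      Cfsg.Agent.Lib.Helper28.s3_class_two R f x hfR hxR hf hx hxf hcop hnil hfix)
    R hR hAR hfpfR

def TowerBridgeProp : Prop :=
  ∀ (Γ : Type u) [Group Γ] [Finite Γ] (p q : ℕ) (A F G : Subgroup Γ), GoodF p q A F G →
    FTowerMainProp.{u} p q → (2 ∣ Nat.card G → ∀ n : ℕ, q ≠ 2 ^ n + 1) →
    ∀ ℓ s r : ℕ, ℓ.Prime → s.Prime → r.Prime → ℓ ≠ s → s ≠ r →
    ∀ S R : Subgroup Γ, S ≤ G → R ≤ G → IsPGroup s S → IsPGroup r R →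
    A ≤ Subgroup.normalizer (S : Set Γ) → A ≤ Subgroup.normalizer (R : Set Γ) →
    R ≤ Subgroup.normalizer (S : Set Γ) →
    ⁅S, R⁆ ≤ Subgroup.centralizer ((Oq G ℓ : Subgroup Γ) : Set Γ)

def Tower2BridgeProp : Prop :=
  ∀ (Γ : Type u) [Group Γ] [Finite Γ] (A F G : Subgroup Γ), GoodF 3 2 A F G → Core2Prop.{u} →
    ∀ ℓ r : ℕ, ℓ.Prime → r.Prime → ℓ ≠ r → ∀ R : Subgroup Γ, R ≤ G → IsPGroup r R →
    A ≤ Subgroup.normalizer (R : Set Γ) →
    ⁅R, R⁆ ≤ Subgroup.centralizer ((Oq G ℓ : Subgroup Γ) : Set Γ)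

variable {Γ : Type u} [Group Γ] [Finite Γ]

theorem FrobA.solvable {p q : ℕ} {A F : Subgroup Γ} (h : FrobA p q A F) : Group.IsSolvable ↥A := by
  have hn : (F.subgroupOf A).Normal := Subgroup.normal_subgroupOf_of_le_normalizer h.AF
  have hidx : (F.subgroupOf A).index = q := by
    have h1 := card_mul_relIndex' h.FA
    rw [h.cardF, h.card] at h1
    exact Nat.eq_of_mul_eq_mul_left h.hp.pos h1
  have hcardF : Nat.card ↥(F.subgroupOf A) = p := by
    rw [← h.cardF]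
    exact Nat.card_congr (Subgroup.subgroupOfEquivOfLe h.FA).toEquiv
  have := Fact.mk h.hp
  have := Fact.mk h.hq
  have hs1 : Group.IsSolvable ↥(F.subgroupOf A) := by
    have hcyc : IsCyclic ↥(F.subgroupOf A) := isCyclic_of_prime_card hcardF
    exact Group.isSolvable_of_comm (fun a b => IsCyclic.commGroup.mul_comm a b)
  have hs2 : Group.IsSolvable (↥A ⧸ F.subgroupOf A) := by
    have hc : Nat.card (↥A ⧸ F.subgroupOf A) = q := by
      rw [← hidx, Subgroup.index_eq_card]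
    have hcyc : IsCyclic (↥A ⧸ F.subgroupOf A) := isCyclic_of_prime_card hc
    exact Group.isSolvable_of_comm (fun a b => IsCyclic.commGroup.mul_comm a b)
  exact Group.isSolvable_of_ker_le_range (F.subgroupOf A).subtype (QuotientGroup.mk' (F.subgroupOf A))
    (by rw [QuotientGroup.ker_mk', Subgroup.range_subtype])

namespace GoodF

variable {p q : ℕ} {A F G : Subgroup Γ}

theorem sub (hG : GoodF p q A F G) {M : Subgroup Γ} (hM : M.Normal) (hMG : M ≤ G) :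
    GoodF p q A F M where
  frob := hG.frob
  normal := hM
  cop := Nat.Coprime.coprime_dvd_left (Subgroup.card_dvd_of_le hMG) hG.cop
  solv := by
    have := hG.solv
    exact Group.isSolvable_of_isSolvable_injective (Subgroup.inclusion_injective hMG)
  fpf := fun g hg h => hG.fpf g (hMG hg) h

theorem goodT (hG : GoodF p q A F G) (hb : TowerBridgeProp.{u}) (hmain : FTowerMainProp.{u} p q)
    (hexc : 2 ∣ Nat.card G → ∀ n : ℕ, q ≠ 2 ^ n + 1) : GoodT A G where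
  normal := hG.normal
  cop := by
    rw [hG.frob.card]
    exact hG.cop.symm
  solvA := hG.frob.solvable
  solv := hG.solv
  tower := by
    intro M hM hMG ℓ s r hℓ hs hr hℓs hsr S R hSM hRM hS hR hAS hAR hRS
    exact hb Γ p q A F M (hG.sub hM hMG) hmain
      (fun h2 => hexc (dvd_trans h2 (Subgroup.card_dvd_of_le hMG))) ℓ s r hℓ hs hr hℓs hsr S R hSM
      hRM hS hR hAS hAR hRS

end GoodF

theorem goodF32_main (hb : TowerBridgeProp.{u}) (hb2 : Tower2BridgeProp.{u}) (hel : ElQuotProp.{u})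
    (A F G : Subgroup Γ) (hG : GoodF 3 2 A F G) : ⁅G, G⁆ ≤ Cfsg.fittingOf G := by
  have hexc : 2 ∣ Nat.card G → ∀ n : ℕ, 2 ≠ 2 ^ n + 1 := by
    intro h2
    exfalso
    have h1 : (Nat.card G).Coprime 2 :=
      Nat.Coprime.coprime_dvd_right (Dvd.intro_left 3 rfl) hG.cop
    have h3 : 2 ∣ Nat.gcd (Nat.card G) 2 := Nat.dvd_gcd h2 (dvd_refl 2)
    rw [h1] at h3
    exact absurd h3 (by decide)
  have hT : GoodT A G := hG.goodT hb (ftowerMainProp_of_el hel 3 2) hexc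
  apply hT.derived_le_fit
  intro ℓ r hℓ hr hℓr R hRG hR hAR
  exact hb2 Γ A F G hG core2Prop ℓ r hℓ hr hℓr R hRG hR hAR

end Cfsg.Agent.Lib.Helper1.FrobPQ
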